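import Mathlib

/-!
The numerical part of the Suzuki subgroup count.
-/

set_option autoImplicit false

namespace CfsgLib.SuzukiSub

theorem le_two_mul_mul {c k : ℕ} (hk : 1 ≤ k) : c ≤ 2 * c * k := by nlinarith

theorem two_mul_le_mul {k s : ℕ} (hs : 2 ≤ s) : 2 * k ≤ k * s + 1 := by nlinarith

theorem quotient_small {c k : ℕ} (hc : 7 ≤ c) (hk : 1 ≤ k) :
    (2 * c * k - c + 2) * c < 2 * (k * (c + 1) ^ 2 + 1 - 2 * k) := by
  obtain ⟨b, rfl⟩ : ∃ b, c = b + 7 := ⟨c - 7, by omega⟩
  obtain ⟨l, rfl⟩ : ∃ l, k = l + 1 := ⟨k - 1, by omega⟩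
  rw [show 2 * (b + 7) * (l + 1) = (b + 7) * (2 * l + 1) + (b + 7) by ring, Nat.add_sub_cancel,
    show (l + 1) * (b + 7 + 1) ^ 2 + 1 = (l + 1) * (b * b + 16 * b + 62) + 1 + 2 * (l + 1) by ring,
    Nat.add_sub_cancel]
  nlinarith [Nat.zero_le (l * b), Nat.zero_le (b * b * l)]

/-- The two counting identities force `s = (c + 1) ^ 2` and `n = 1 + s`. -/
theorem counting_solve {ι : Type*} [DecidableEq ι] (T : Finset ι) (a w : ι → ℕ) {C0 : ι} (hC0 : C0 ∈ T)
    {n s c g : ℕ} (hc : 7 ≤ c) (hac : a C0 = c) (hwC : w C0 ∣ 2)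
    (hg : g = n * (s * c)) (hn : 1 < n) (hks : ∃ k, n = 1 + k * s)
    (hs : ∃ f, s = 2 ^ f) (hc2 : ∃ e, c + 1 = 2 ^ e ∧ Odd e)
    (hcs : c + 1 ∣ s) (helem : s = c + 1 → ∀ i ∈ T, w i ∣ 2) (hbig : s ≠ c + 1 → (c + 1) ^ 2 ≤ s)
    (hw : ∀ i ∈ T, w i ∣ 4) (ha : ∀ i ∈ T, 5 ≤ a i) (h3 : ∀ i ∈ T, ¬ 3 ∣ a i)
    (eq1 : (g : ℚ) - 1 = n * ((s : ℚ) - 1) + ∑ i ∈ T, (g : ℚ) / (w i * a i) * ((a i : ℚ) - 1))
    (eq2 : ((n : ℚ) * c) * (n * c) = n * c + n * c * ((c : ℚ) - 1) +
      ∑ i ∈ T, if Even (w i) then (g : ℚ) / (w i * a i) * (a i * ((a i : ℚ) - 1)) else 0) :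
    s = (c + 1) ^ 2 ∧ n = 1 + s := by
  obtain ⟨k, hk⟩ := hks
  obtain ⟨e, he, heodd⟩ := hc2
  obtain ⟨f, hf⟩ := hs
  have hk1 : 1 ≤ k := by
    rcases Nat.eq_zero_or_pos k with rfl | h
    · omega
    · exact h
  have hs8 : 8 ≤ s := by
    have := Nat.le_of_dvd (hf ▸ Nat.pow_pos (by omega)) hcs
    omega
  have hsq : (0 : ℚ) < s := by exact_mod_cast (show 0 < s by omega)
  have hcq : (0 : ℚ) < c := by exact_mod_cast (show 0 < c by omega)
  have hnq : (0 : ℚ) < n := by exact_mod_cast (show 0 < n by omega)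
  have hgq : (g : ℚ) = n * (s * c) := by exact_mod_cast hg
  have hg0 : (0 : ℚ) < g := by rw [hgq]; positivity
  set t : ι → ℚ := fun i => (1 - 1 / (a i : ℚ)) / w i with ht
  have hwpos : ∀ i ∈ T, (0 : ℚ) < w i := fun i hi => by exact_mod_cast Nat.pos_of_dvd_of_pos (hw i hi) (by norm_num)
  have hapos : ∀ i ∈ T, (0 : ℚ) < a i := fun i hi => by exact_mod_cast (show 0 < a i by have := ha i hi; omega)
  have e1 : 1 = 1 / (g : ℚ) + ((s : ℚ) - 1) / (s * c) + ∑ i ∈ T, t i := by
    have h : ∑ i ∈ T, (g : ℚ) / (w i * a i) * ((a i : ℚ) - 1) = g * ∑ i ∈ T, t i := by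
      rw [Finset.mul_sum]
      refine Finset.sum_congr rfl fun i hi => ?_
      have := hwpos i hi
      have := hapos i hi
      simp only [ht]
      field_simp
    rw [h] at eq1
    rw [hgq] at eq1 ⊢
    field_simp at eq1 ⊢
    linear_combination eq1
  have hbound : ∀ i ∈ T, 4 / 5 / (w i : ℚ) ≤ t i ∧ t i < 1 / w i := by
    intro i hi
    have h5 : (5 : ℚ) ≤ a i := by exact_mod_cast ha i hi
    have hp := hwpos i hi
    constructor
    · simp only [ht]
      gcongr
      have : 1 / (a i : ℚ) ≤ 1 / 5 := one_div_le_one_div_of_le (by norm_num) h5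
      linarith
    · simp only [ht]
      gcongr
      have := hapos i hi
      have : 0 < 1 / (a i : ℚ) := by positivity
      linarith
  set R := T.erase C0 with hR
  have hsplit : ∑ i ∈ T, t i = t C0 + ∑ i ∈ R, t i := (Finset.add_sum_erase T t hC0).symm
  have hRnn : ∀ i ∈ R, (0 : ℚ) ≤ t i := fun i hi => by
    have := (hbound i (Finset.mem_of_mem_erase hi)).1
    have := hwpos i (Finset.mem_of_mem_erase hi)
    have : (0 : ℚ) ≤ 4 / 5 / (w i : ℚ) := by positivity
    linarith
  have hgn : 1 / (g : ℚ) < 1 / (s * c) := by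
    rw [hgq]
    refine one_div_lt_one_div_of_lt (by positivity) (lt_mul_of_one_lt_left (by positivity) ?_)
    exact_mod_cast hn
  have hw2 : w C0 = 2 := by
    rcases (Nat.dvd_prime Nat.prime_two).mp hwC with h | h
    · exfalso
      have htC : t C0 = 1 - 1 / (c : ℚ) := by simp [ht, h, hac]
      rw [hsplit, htC] at e1
      have hz : ((s : ℚ) - 1) / (s * c) = 1 / c - 1 / (s * c) := by field_simp
      rw [hz] at e1
      rcases R.eq_empty_or_nonempty with h0 | ⟨i, hi⟩
      · rw [h0, Finset.sum_empty] at e1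
        linarith
      · have hi' := Finset.mem_of_mem_erase hi
        have h1 := Finset.single_le_sum hRnn hi
        have h2 := (hbound i hi').1
        have h4 : (w i : ℚ) ≤ 4 := by exact_mod_cast Nat.le_of_dvd (by norm_num) (hw i hi')
        have h5 : (1 / 5 : ℚ) ≤ 4 / 5 / (w i : ℚ) := by
          rw [le_div_iff₀ (hwpos i hi')]; linarith
        have h6 : 1 / ((s : ℚ) * c) ≤ 1 / 56 := by
          apply one_div_le_one_div_of_le (by norm_num)
          have : 8 * 7 ≤ s * c := Nat.mul_le_mul hs8 hc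
          exact_mod_cast this
        have : 0 < 1 / (g : ℚ) := by positivity
        linarith
    · exact h
  set L : ℚ := 1 / 2 - 1 / (2 * c) + (1 / (s * c) - 1 / g) with hL
  have hsumR : ∑ i ∈ R, t i = L := by
    have htC : t C0 = (1 - 1 / (c : ℚ)) / 2 := by simp [ht, hw2, hac]
    rw [hsplit, htC] at e1
    rw [hL]
    field_simp at e1 ⊢
    linear_combination -e1
  have hLlow : (3 : ℚ) / 7 ≤ L := by
    have : 1 / (2 * (c : ℚ)) ≤ 1 / 14 := by
      apply one_div_le_one_div_of_le (by norm_num)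
      have : (7 : ℚ) ≤ c := by exact_mod_cast hc
      linarith
    rw [hL]; linarith
  have hLhigh : L < 1 / 2 := by
    have : 1 / ((s : ℚ) * c) ≤ 1 / (8 * c) := by
      apply one_div_le_one_div_of_le (by positivity)
      have : (8 : ℚ) ≤ s := by exact_mod_cast hs8
      exact mul_le_mul_of_nonneg_right this hcq.le
    have h8 : 1 / (8 * (c : ℚ)) < 1 / (2 * c) := one_div_lt_one_div_of_lt (by positivity) (by linarith)
    have : 0 < 1 / (g : ℚ) := by positivity
    rw [hL]; linarith
  have hwR : ∀ i ∈ R, w i = 2 ∨ w i = 4 := by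
    intro i hi
    have hi' := Finset.mem_of_mem_erase hi
    rcases (Nat.dvd_prime_pow Nat.prime_two (m := 2)).mp (by norm_num; exact hw i hi') with ⟨j, hj, hwj⟩
    interval_cases j
    · exfalso
      have h1 := Finset.single_le_sum hRnn hi
      have h2 := (hbound i hi').1
      rw [hwj] at h2; norm_num at h2
      linarith
    · exact Or.inl hwj
    · exact Or.inr hwj
  have hev : ∀ i ∈ T, Even (w i) := by
    intro i hi
    by_cases hiC : i = C0
    · subst hiC; rw [hw2]; exact even_two
    · rcases hwR i (Finset.mem_erase.mpr ⟨hiC, hi⟩) with h | h <;> rw [h]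
      · exact even_two
      · exact ⟨2, rfl⟩
  have e2 : (c : ℚ) * k = ((c : ℚ) - 1) / 2 + ∑ i ∈ R, ((a i : ℚ) - 1) / w i := by
    have hnk : (n : ℚ) = 1 + k * s := by exact_mod_cast hk
    rw [Finset.sum_congr rfl (fun i hi => if_pos (hev i hi))] at eq2
    have h : ∑ i ∈ T, (g : ℚ) / (w i * a i) * (a i * ((a i : ℚ) - 1)) =
        g * ∑ i ∈ T, ((a i : ℚ) - 1) / w i := by
      rw [Finset.mul_sum]
      refine Finset.sum_congr rfl fun i hi => ?_
      have := hwpos i hi
      have := hapos i hi
      field_simp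
    rw [h, ← Finset.add_sum_erase T _ hC0, hw2, hac, hgq] at eq2
    have hne : (n : ℚ) * (s * c) ≠ 0 := by positivity
    apply mul_left_cancel₀ hne
    push_cast at eq2
    rw [← hR] at eq2
    linear_combination eq2 - (n : ℚ) * (c : ℚ) ^ 2 * hnk
  have hSk : (s : ℚ) * k + 1 = n := by
    have : (n : ℚ) = 1 + k * s := by exact_mod_cast hk
    linear_combination -this
  rcases (show R.card = 0 ∨ R.card = 1 ∨ R.card = 2 ∨ 3 ≤ R.card by omega) with h0 | h1 | h2 | h3'
  · rw [Finset.card_eq_zero.mp h0, Finset.sum_empty] at hsumR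
    linarith
  · obtain ⟨i, hi⟩ := Finset.card_eq_one.mp h1
    have hiR : i ∈ R := hi ▸ Finset.mem_singleton_self i
    have hi' := Finset.mem_of_mem_erase hiR
    rw [hi, Finset.sum_singleton] at hsumR e2
    rcases hwR i hiR with hwi | hwi
    · exfalso
      have hai : (a i : ℚ) = c * (2 * k - 1) + 2 := by
        rw [hwi] at e2; push_cast at e2; linarith
      rcases Nat.lt_or_ge k 2 with hk2 | hk2
      · have : k = 1 := by omega
        subst this
        have : a i = c + 2 := by
          have : (a i : ℚ) = c + 2 := by push_cast at hai; linarith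
          exact_mod_cast this
        apply h3 i hi'
        rw [this, show c + 2 = 2 ^ e + 1 by omega]
        obtain ⟨r, hr⟩ := heodd
        rw [hr, Nat.dvd_iff_mod_eq_zero, pow_succ, pow_mul, Nat.add_mod, Nat.mul_mod, Nat.pow_mod]
        norm_num
      · have htv : (1 - 1 / (a i : ℚ)) / 2 = L := by simpa [ht, hwi] using hsumR
        have hage : 3 * (c : ℚ) ≤ a i := by
          have : (2 : ℚ) ≤ k := by exact_mod_cast hk2
          have := mul_le_mul_of_nonneg_left (show (3 : ℚ) ≤ 2 * k - 1 by linarith) hcq.le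
          linarith
        have h1' : 1 / (a i : ℚ) ≤ 1 / (3 * c) := one_div_le_one_div_of_le (by positivity) hage
        have h2' : 1 / ((s : ℚ) * c) ≤ 1 / (8 * c) := by
          apply one_div_le_one_div_of_le (by positivity)
          have : (8 : ℚ) ≤ s := by exact_mod_cast hs8
          exact mul_le_mul_of_nonneg_right this hcq.le
        have : 0 < 1 / (g : ℚ) := by positivity
        have e' : 1 / (a i : ℚ) = 1 / c - 2 * (1 / (s * c) - 1 / g) := by
          have : 1 / (2 * (c : ℚ)) = 1 / c / 2 := by field_simp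
          rw [hL, this] at htv; linarith
        have e'' : 1 / (3 * (c : ℚ)) = 1 / c / 3 := by field_simp
        have e''' : 1 / (8 * (c : ℚ)) = 1 / c / 8 := by field_simp
        have : 0 < 1 / (c : ℚ) := by positivity
        linarith
    · have := (hbound i hi').2
      rw [hsumR, hwi] at this
      push_cast at this
      linarith
  · obtain ⟨i, j, hij, hR2⟩ := Finset.card_eq_two.mp h2
    have hiR : i ∈ R := hR2 ▸ Finset.mem_insert_self i _
    have hjR : j ∈ R := hR2 ▸ Finset.mem_insert_of_mem (Finset.mem_singleton_self j)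
    rw [hR2, Finset.sum_pair hij] at hsumR e2
    have lbi := (hbound i (Finset.mem_of_mem_erase hiR)).1
    have lbj := (hbound j (Finset.mem_of_mem_erase hjR)).1
    have h44 : w i = 4 ∧ w j = 4 := by
      rcases hwR i hiR with hwi | hwi <;> rcases hwR j hjR with hwj | hwj <;>
        rw [hwi] at lbi <;> rw [hwj] at lbj <;> norm_num at lbi lbj
      · exfalso; linarith
      · exfalso; linarith
      · exfalso; linarith
      · exact ⟨hwi, hwj⟩
    have hsne : s ≠ c + 1 := fun h => by
      have := helem h i (Finset.mem_of_mem_erase hiR)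
      rw [h44.1] at this
      norm_num at this
    have hsbig := hbig hsne
    have hai := hapos i (Finset.mem_of_mem_erase hiR)
    have haj := hapos j (Finset.mem_of_mem_erase hjR)
    have hS : (a i : ℚ) + a j = 4 * c * k - 2 * c + 4 := by
      rw [h44.1, h44.2] at e2; push_cast at e2; linarith
    have hu : ((a i : ℚ) + a j) * c * (1 + k * s) =
        2 * ((k : ℚ) * s - 2 * k + 1) * (a i * a j) := by
      have h := hsumR
      simp only [ht, hL, h44.1, h44.2] at h
      rw [hgq, show (n : ℚ) = 1 + k * s by linarith] at h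
      have hne : (1 : ℚ) + k * s ≠ 0 := by positivity
      push_cast at h
      field_simp at h
      refine mul_left_cancel₀ (show (2 : ℚ) * s ≠ 0 by positivity) ?_
      linear_combination -h
    have hkey : (k * s + 1 - 2 * k) * (a i * a j) = (2 * c * k - c + 2) * c * (1 + k * s) := by
      have hle : 2 * k ≤ k * s + 1 := two_mul_le_mul (by omega)
      have hle2 : c ≤ 2 * c * k := le_two_mul_mul hk1
      have : ((k * s + 1 - 2 * k : ℕ) : ℚ) * ((a i : ℚ) * a j) =
          ((2 * c * k - c + 2 : ℕ) : ℚ) * c * (1 + k * s) := by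
        push_cast [Nat.cast_sub hle, Nat.cast_sub hle2]
        rw [hS] at hu
        linear_combination (-1 / 2 : ℚ) * hu
      exact_mod_cast this
    have hseven : Even s := by
      rw [hf, Nat.even_pow]
      exact ⟨even_two, fun h => by rw [hf, h, pow_zero] at hs8; omega⟩
    have hD : k * s + 1 - 2 * k ∣ (2 * c * k - c + 2) * c := by
      have hco : Nat.Coprime (k * s + 1 - 2 * k) (1 + k * s) := by
        refine Nat.coprime_of_dvd' fun p hp h1 h2 => ?_
        have hle : 2 * k ≤ k * s + 1 := two_mul_le_mul (by omega)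
        have h2k : p ∣ 2 * k := by
          have := Nat.dvd_sub h2 h1
          rwa [show 1 + k * s - (k * s + 1 - 2 * k) = 2 * k by omega] at this
        rcases hp.dvd_mul.mp h2k with h | h
        · have := (Nat.prime_dvd_prime_iff_eq hp Nat.prime_two).mp h
          subst this
          have hev : Even (k * s) := hseven.mul_left k
          rw [Nat.even_iff] at hev
          omega
        · exact (Nat.dvd_add_iff_left (h.mul_right s)).mpr h2
      exact hco.dvd_of_dvd_mul_right (Dvd.intro _ hkey)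
    have hDle := Nat.le_of_dvd (Nat.mul_pos (by omega) (by omega)) hD
    have hlt : s < 2 * (c + 1) ^ 2 := by
      by_contra hge
      push Not at hge
      have h1 : (2 * c * k - c + 2) * c ≤ 2 * c * k * c := Nat.mul_le_mul_right _ (by have hle : c ≤ 2 * c * k := le_two_mul_mul hk1; generalize 2 * c * k = A at *; omega)
      have h2 : 2 * k * (c + 1) ^ 2 ≤ k * s := by
        rw [mul_comm 2 k, mul_assoc]; exact Nat.mul_le_mul_left k hge
      have h3 : 2 * c * k * c + 4 * (k * c) + 2 * k = 2 * k * (c + 1) ^ 2 := by ring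
      have : k ≤ k * c := Nat.le_mul_of_pos_right _ (by omega)
      generalize (2 * c * k - c + 2) * c = A at *
      generalize 2 * c * k * c = B at *
      generalize 2 * k * (c + 1) ^ 2 = D at *
      generalize k * s = E at *
      generalize k * c = J at *
      omega
    have hseq : s = (c + 1) ^ 2 := by
      rw [he, ← pow_mul, hf] at hsbig hlt ⊢
      have h1 := (Nat.pow_le_pow_iff_right (by norm_num : 1 < 2)).mp hsbig
      rw [← pow_succ'] at hlt
      have h2 := (Nat.pow_lt_pow_iff_right (by norm_num : 1 < 2)).mp hlt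
      rw [show f = e * 2 by omega]
    refine ⟨hseq, ?_⟩
    have hN : (2 * c * k - c + 2) * c < 2 * (k * s + 1 - 2 * k) := by
      rw [hseq]
      exact quotient_small hc hk1
    have hDN : (2 * c * k - c + 2) * c = k * s + 1 - 2 * k := by
      obtain ⟨q, hq⟩ := hD
      have hq2 : q < 2 := by
        by_contra h
        have : (k * s + 1 - 2 * k) * 2 ≤ (k * s + 1 - 2 * k) * q := Nat.mul_le_mul_left _ (by omega)
        omega
      have hq0 : q ≠ 0 := fun h => by rw [h, mul_zero] at hq; have : 0 < (2 * c * k - c + 2) * c := Nat.mul_pos (by omega) (by omega); omega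
      rw [hq, show q = 1 by omega, mul_one]
    have hk1' : k = 1 := by
      have hle : 2 * k ≤ k * s + 1 := two_mul_le_mul (by omega)
      have hle2 : c ≤ 2 * c * k := le_two_mul_mul hk1
      have h : (((2 * c * k - c + 2) * c : ℕ) : ℤ) = ((k * s + 1 - 2 * k : ℕ) : ℤ) := by rw [hDN]
      rw [hseq] at h hle
      push_cast [Nat.cast_sub hle, Nat.cast_sub hle2] at h
      have hfac : ((k : ℤ) - 1) * ((c : ℤ) - 1) ^ 2 = 0 := by linear_combination h
      rcases mul_eq_zero.mp hfac with h' | h'
      · omega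
      · have := pow_eq_zero_iff (n := 2) (by norm_num) |>.mp h'
        omega
    rw [hk, hk1', one_mul]
  · exfalso
    obtain ⟨S, hS, hS3⟩ := Finset.exists_subset_card_eq h3'
    have h1 : ∑ i ∈ S, t i ≤ L := hsumR ▸ Finset.sum_le_sum_of_subset_of_nonneg hS (fun i hi _ => hRnn i hi)
    have h2 : ∀ i ∈ S, (1 / 5 : ℚ) ≤ t i := fun i hi => by
      have hi' := Finset.mem_of_mem_erase (hS hi)
      have := (hbound i hi').1
      rcases hwR i (hS hi) with h | h <;> rw [h] at this <;> norm_num at this <;> linarith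
    have h3'' := Finset.card_nsmul_le_sum S t (1 / 5) h2
    rw [hS3] at h3''
    simp at h3''
    linarith

end CfsgLib.SuzukiSub
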