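import Mathlib
import Cfsg.Agent.Lib.SuzukiSub.Numeric

/-!
The class equation and the involution-pair count for a group with a TI Sylow 2-subgroup and cyclic tori.
-/

set_option autoImplicit false

namespace CfsgLib.SuzukiSub

/-- The hypotheses of the count. -/
structure Setup {M : Type*} [Group M] (Q C : Subgroup M) (c : ℕ) : Prop where
  two : IsPGroup 2 Q
  ti : ∀ g x : M, x ∈ Q → g⁻¹ * x * g ∈ Q → x ≠ 1 → g ∈ Subgroup.normalizer (Q : Set M)
  normalizer_card : Nat.card (Subgroup.normalizer (Q : Set M)) = Nat.card Q * c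
  card_C : Nat.card C = c
  two_mem : ∀ g : M, (∃ i : ℕ, orderOf g = 2 ^ i) → ∃ x, x⁻¹ * g * x ∈ Q
  cent : ∀ g : M, g ≠ 1 → (¬ ∃ x, x⁻¹ * g * x ∈ Q) →
    Odd (Nat.card (Subgroup.centralizer ({g} : Set M))) ∧
      (∀ x ∈ Subgroup.centralizer ({g} : Set M), x ≠ 1 →
        Subgroup.centralizer ({x} : Set M) = Subgroup.centralizer ({g} : Set M)) ∧
      (Subgroup.centralizer ({g} : Set M)).relIndex
        (Subgroup.normalizer (Subgroup.centralizer ({g} : Set M) : Set M)) ∣ 4
  cent_C : ∀ x ∈ C, x ≠ 1 → Subgroup.centralizer ({x} : Set M) = C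
  weyl_C : C.relIndex (Subgroup.normalizer (C : Set M)) ∣ 2
  card_inv : Nat.card {x : M // x ∈ Q ∧ orderOf x = 2} = c
  not_normal : ∃ g : M, g ∉ Subgroup.normalizer (Q : Set M)
  not_three : ¬ 3 ∣ Nat.card M
  elem : Nat.card Q = c + 1 → ∀ x : M, x ^ 4 = 1 → x ^ 2 = 1
  big : Nat.card Q ≠ c + 1 → (c + 1) ^ 2 ≤ Nat.card Q
  seven_le : 7 ≤ c
  pow_form : ∃ e, c + 1 = 2 ^ e ∧ Odd e

section

variable {M : Type*} [Group M]

theorem mem_map_conj_iff (H : Subgroup M) (g x : M) :
    x ∈ H.map (MulAut.conj g).toMonoidHom ↔ g⁻¹ * x * g ∈ H := by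
  constructor
  · rintro ⟨y, hy, rfl⟩
    simpa [mul_assoc] using hy
  · intro h
    exact ⟨_, h, by simp [mul_assoc]⟩

theorem centralizer_map_conj (g x : M) :
    (Subgroup.centralizer ({x} : Set M)).map (MulAut.conj g).toMonoidHom =
      Subgroup.centralizer ({g * x * g⁻¹} : Set M) := by
  ext y
  rw [mem_map_conj_iff, Subgroup.mem_centralizer_singleton_iff, Subgroup.mem_centralizer_singleton_iff]
  constructor
  · intro h
    calc y * (g * x * g⁻¹) = g * (g⁻¹ * y * g * x) * g⁻¹ := by group
      _ = g * (x * (g⁻¹ * y * g)) * g⁻¹ := by rw [h]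
      _ = _ := by group
  · intro h
    calc g⁻¹ * y * g * x = g⁻¹ * (y * (g * x * g⁻¹)) * g := by group
      _ = g⁻¹ * (g * x * g⁻¹ * y) * g := by rw [h]
      _ = _ := by group

theorem map_conj_eq_iff (A : Subgroup M) (x y : M) :
    A.map (MulAut.conj x).toMonoidHom = A.map (MulAut.conj y).toMonoidHom ↔
      x⁻¹ * y ∈ Subgroup.normalizer (A : Set M) := by
  rw [Subgroup.mem_normalizer_iff]
  constructor
  · intro h z
    have := SetLike.ext_iff.mp h (y * z * y⁻¹)
    rw [mem_map_conj_iff, mem_map_conj_iff] at this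
    simpa [mul_assoc] using this.symm
  · intro h
    ext z
    rw [mem_map_conj_iff, mem_map_conj_iff]
    have := h (y⁻¹ * z * y)
    simp only [mul_assoc, mul_inv_cancel_left, mul_inv_rev, inv_inv, mul_inv_cancel, mul_one] at this
    simpa [mul_assoc] using this.symm

variable [Finite M]

open Classical in
/-- The conjugates of a subgroup, as a finset. -/
noncomputable def conjClass (A : Subgroup M) : Finset (Subgroup M) :=
  (Set.toFinite (Set.range fun x : M => A.map (MulAut.conj x).toMonoidHom)).toFinset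

theorem mem_conjClass {A B : Subgroup M} : B ∈ conjClass A ↔ ∃ x : M, A.map (MulAut.conj x).toMonoidHom = B := by
  simp [conjClass]

theorem self_mem_conjClass (A : Subgroup M) : A ∈ conjClass A :=
  mem_conjClass.mpr ⟨1, by ext z; rw [mem_map_conj_iff]; simp⟩

theorem conjClass_eq_of_mem {A B : Subgroup M} (h : B ∈ conjClass A) : conjClass B = conjClass A := by
  obtain ⟨x, rfl⟩ := mem_conjClass.mp h
  ext D
  rw [mem_conjClass, mem_conjClass]
  constructor
  · rintro ⟨y, rfl⟩
    exact ⟨y * x, by rw [Subgroup.map_map]; congr 1; ext z; simp [mul_assoc]⟩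
  · rintro ⟨y, rfl⟩
    exact ⟨y * x⁻¹, by rw [Subgroup.map_map]; congr 1; ext z; simp [mul_assoc]⟩

theorem card_conjClass (A : Subgroup M) :
    (conjClass A).card = (Subgroup.normalizer (A : Set M)).index := by
  classical
  rw [Subgroup.index, ← Nat.card_eq_finsetCard]
  refine (Nat.card_congr (Equiv.ofBijective (Quotient.lift (fun x : M => (⟨A.map (MulAut.conj x).toMonoidHom,
    mem_conjClass.mpr ⟨x, rfl⟩⟩ : {B // B ∈ conjClass A})) ?_) ⟨?_, ?_⟩)).symm
  · intro x y hxy
    exact Subtype.ext ((map_conj_eq_iff A x y).mpr (QuotientGroup.leftRel_apply.mp hxy))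
  · intro a b
    induction a using Quotient.inductionOn with
    | _ x =>
      induction b using Quotient.inductionOn with
      | _ y =>
        intro h
        exact Quotient.sound (QuotientGroup.leftRel_apply.mpr ((map_conj_eq_iff A x y).mp (congrArg Subtype.val h)))
  · rintro ⟨B, hB⟩
    obtain ⟨x, rfl⟩ := mem_conjClass.mp hB
    exact ⟨Quotient.mk _ x, rfl⟩

theorem card_normalizer_eq (A : Subgroup M) :
    Nat.card (Subgroup.normalizer (A : Set M)) =
      A.relIndex (Subgroup.normalizer (A : Set M)) * Nat.card A := by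
  rw [← (A.subgroupOf (Subgroup.normalizer (A : Set M))).index_mul_card,
    Nat.card_congr (Subgroup.subgroupOfEquivOfLe Subgroup.le_normalizer).toEquiv]
  rfl

theorem card_conjClass_cast (A : Subgroup M) :
    ((conjClass A).card : ℚ) =
      (Nat.card M : ℚ) / ((A.relIndex (Subgroup.normalizer (A : Set M)) : ℕ) * (Nat.card A : ℕ)) := by
  have h := (Subgroup.normalizer (A : Set M)).index_mul_card
  rw [card_normalizer_eq, ← card_conjClass] at h
  have hpos : (0 : ℚ) < (A.relIndex (Subgroup.normalizer (A : Set M)) : ℕ) * (Nat.card A : ℕ) := by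
    rw [← Nat.cast_mul, ← card_normalizer_eq]
    exact_mod_cast Nat.card_pos
  rw [eq_div_iff hpos.ne']
  exact_mod_cast h

theorem orderOf_two_iff {x : M} : orderOf x = 2 ↔ x * x = 1 ∧ x ≠ 1 := by
  rw [orderOf_eq_prime_iff, sq]

theorem mul_self_conj {x : M} (hx : x * x = 1) {y : M} : x⁻¹ * y * x = x * y * x := by
  rw [inv_eq_of_mul_eq_one_right hx]

theorem invert_pair {i j : M} (hi : i * i = 1) (hj : j * j = 1) : i * (i * j) * i⁻¹ = (i * j)⁻¹ := by
  rw [mul_inv_rev, inv_eq_of_mul_eq_one_right hi, inv_eq_of_mul_eq_one_right hj, ← mul_assoc, hi, one_mul]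

end

section Main

variable {M : Type*} [Group M] [Finite M] {Q C : Subgroup M} {c : ℕ}

theorem orderOf_two_mem_of_odd {A : Subgroup M} (hA : Odd (Nat.card A)) {x : M} (hx : orderOf x = 2) :
    x ∉ A := by
  intro h
  have := A.orderOf_dvd_natCard h
  rw [hx] at this
  exact (Nat.not_even_iff_odd.mpr hA) (even_iff_two_dvd.mpr this)

/-- The main count. -/
theorem Setup.solve (S : Setup Q C c) :
    Nat.card Q = (c + 1) ^ 2 ∧ Nat.card M = (1 + Nat.card Q) * (Nat.card Q * c) := by
  classical
  have := Fintype.ofFinite M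
  set N := Subgroup.normalizer (Q : Set M) with hNdef
  set n := N.index with hn
  set s := Nat.card Q with hs
  have hg : Nat.card M = n * (s * c) := by
    rw [← N.index_mul_card, S.normalizer_card]
  obtain ⟨e, he, heodd⟩ := S.pow_form
  obtain ⟨f, hf⟩ := IsPGroup.iff_card.mp S.two
  have hc7 := S.seven_le
  have hcodd : Odd c := by
    have : Even (c + 1) := by
      rw [he, Nat.even_pow]
      exact ⟨even_two, fun h => by rw [h, pow_zero] at he; omega⟩
    rw [Nat.odd_iff]; rw [Nat.even_iff] at this; omega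
  have hn1 : 1 < n := by
    have : n ≠ 1 := fun h => by
      obtain ⟨x, hx⟩ := S.not_normal
      refine hx ?_
      have h' : N = ⊤ := Subgroup.index_eq_one.mp h
      show x ∈ N
      rw [h']; trivial
    have := Subgroup.index_ne_zero_of_finite (H := N)
    omega
  -- basic predicates
  let inQ : M → Prop := fun g => ∃ x, x⁻¹ * g * x ∈ Q
  have hQodd : ∀ g : M, inQ g → ∀ A : Subgroup M, Odd (Nat.card A) → g ∈ A → g = 1 := by
    rintro g ⟨x, hx⟩ A hA hgA
    obtain ⟨i, hi⟩ := IsPGroup.iff_orderOf.mp S.two ⟨_, hx⟩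
    rw [Subgroup.orderOf_mk] at hi
    have hord : orderOf g = 2 ^ i := by
      rw [← hi]
      have : x⁻¹ * g * x = MulAut.conj x⁻¹ g := by simp
      rw [this, MulEquiv.orderOf_eq]
    have hd := A.orderOf_dvd_natCard hgA
    rw [hord] at hd
    rcases Nat.eq_zero_or_pos i with h0 | h0
    · exact orderOf_eq_one_iff.mp (by rw [hord, h0, pow_zero])
    · exact absurd (even_iff_two_dvd.mpr ((dvd_pow_self 2 h0.ne').trans hd)) (Nat.not_even_iff_odd.mpr hA)
  have hinvQ : ∀ g : M, orderOf g = 2 → inQ g := fun g hg => S.two_mem g ⟨1, by rw [hg, pow_one]⟩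
  set U := Finset.univ.filter (fun g : M => g ≠ 1 ∧ ¬ inQ g) with hU
  set 𝒜 := U.image (fun g => Subgroup.centralizer ({g} : Set M)) with h𝒜
  have hA : ∀ A ∈ 𝒜, Odd (Nat.card A) ∧ 5 ≤ Nat.card A ∧ (¬ 3 ∣ Nat.card A) ∧
      (∀ x ∈ A, x ≠ 1 → x ∈ U ∧ Subgroup.centralizer ({x} : Set M) = A) ∧
      A.relIndex (Subgroup.normalizer (A : Set M)) ∣ 4 := by
    intro A hA
    obtain ⟨g, hg, rfl⟩ := Finset.mem_image.mp hA
    obtain ⟨hg1, hgQ⟩ := (Finset.mem_filter.mp hg).2
    obtain ⟨hodd, hc, hw⟩ := S.cent g hg1 hgQ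
    have h3 : ¬ 3 ∣ Nat.card (Subgroup.centralizer ({g} : Set M)) :=
      fun h => S.not_three (h.trans (Subgroup.card_subgroup_dvd_card _))
    have hgmem : g ∈ Subgroup.centralizer ({g} : Set M) := Subgroup.mem_centralizer_singleton_iff.mpr rfl
    refine ⟨hodd, ?_, h3, fun x hx hx1 => ⟨Finset.mem_filter.mpr ⟨Finset.mem_univ _, hx1,
      fun hq => hx1 (hQodd x hq _ hodd hx)⟩, hc x hx hx1⟩, hw⟩
    have h1 : Nat.card (Subgroup.centralizer ({g} : Set M)) ≠ 1 := fun h => by
      have := Subgroup.eq_bot_of_card_eq _ h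
      rw [this, Subgroup.mem_bot] at hgmem
      exact hg1 hgmem
    obtain ⟨r, hr⟩ := hodd
    omega
  have hCmem : C ∈ 𝒜 := by
    obtain ⟨x, hx, hx1⟩ : ∃ x ∈ C, x ≠ 1 := by
      by_contra hcon
      push Not at hcon
      have hC0 : C = ⊥ := (Subgroup.eq_bot_iff_forall C).mpr hcon
      have := S.card_C
      rw [hC0, Subgroup.card_bot] at this
      omega
    refine Finset.mem_image.mpr ⟨x, Finset.mem_filter.mpr ⟨Finset.mem_univ _, hx1,
      fun hq => hx1 (hQodd x hq C (S.card_C.symm ▸ hcodd) hx)⟩, S.cent_C x hx hx1⟩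
  have hclosed : ∀ A ∈ 𝒜, ∀ B ∈ conjClass A, B ∈ 𝒜 := by
    intro A hA' B hB
    obtain ⟨g, hg, rfl⟩ := Finset.mem_image.mp hA'
    obtain ⟨hg1, hgQ⟩ := (Finset.mem_filter.mp hg).2
    obtain ⟨y, rfl⟩ := mem_conjClass.mp hB
    refine Finset.mem_image.mpr ⟨y * g * y⁻¹, Finset.mem_filter.mpr ⟨Finset.mem_univ _, ?_, ?_⟩,
      (centralizer_map_conj y g).symm⟩
    · intro h; exact hg1 (conj_eq_one_iff.mp h)
    · rintro ⟨x, hx⟩; exact hgQ ⟨y⁻¹ * x, by simpa [mul_assoc] using hx⟩
  set R := 𝒜.image conjClass with hR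
  have hrep : ∀ K : Finset (Subgroup M), ∃ A, K ∈ R → (A ∈ 𝒜 ∧ conjClass A = K) := by
    intro K
    by_cases hK : K ∈ R
    · obtain ⟨A, h1, h2⟩ := Finset.mem_image.mp hK
      exact ⟨A, fun _ => ⟨h1, h2⟩⟩
    · exact ⟨⊥, fun h => absurd h hK⟩
  choose rep hrep using hrep
  let af : Finset (Subgroup M) → ℕ := fun K => Nat.card (rep K)
  let wf : Finset (Subgroup M) → ℕ := fun K => (rep K).relIndex (Subgroup.normalizer (rep K : Set M))
  let aS : Subgroup M → ℕ := fun A => Nat.card A
  let wS' : Subgroup M → ℕ := fun A => A.relIndex (Subgroup.normalizer (A : Set M))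
  have hinv_a : ∀ A B : Subgroup M, B ∈ conjClass A → aS B = aS A ∧ wS' B = wS' A := by
    intro A B hB
    have ha : aS B = aS A := by
      obtain ⟨x, rfl⟩ := mem_conjClass.mp hB
      exact Subgroup.card_map_of_injective (MulAut.conj x).injective
    refine ⟨ha, ?_⟩
    have h1 := (Subgroup.normalizer (A : Set M)).index_mul_card
    have h2 := (Subgroup.normalizer (B : Set M)).index_mul_card
    rw [card_normalizer_eq, ← card_conjClass] at h1 h2
    rw [conjClass_eq_of_mem hB] at h2
    have h3 : (conjClass A).card * (wS' B * aS B) = (conjClass A).card * (wS' A * aS A) := h2.trans h1.symm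
    have h4 := Nat.eq_of_mul_eq_mul_left (Finset.card_pos.mpr ⟨A, self_mem_conjClass A⟩) h3
    rw [ha] at h4
    exact Nat.eq_of_mul_eq_mul_right Nat.card_pos h4
  have hsum : ∀ φ : ℕ → ℕ → ℚ, ∑ A ∈ 𝒜, φ (wS' A) (aS A) =
      ∑ K ∈ R, (Nat.card M : ℚ) / ((wf K : ℕ) * (af K : ℕ)) * φ (wf K) (af K) := by
    intro φ
    rw [← Finset.sum_fiberwise_of_maps_to (g := conjClass) (t := R) (fun A hA' => Finset.mem_image_of_mem _ hA')]
    refine Finset.sum_congr rfl fun K hK => ?_
    obtain ⟨hr1, hr2⟩ := hrep K hK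
    have hfib : (𝒜.filter fun A => conjClass A = K) = conjClass (rep K) := by
      ext B
      rw [Finset.mem_filter, hr2]
      constructor
      · rintro ⟨-, hB⟩; exact hB ▸ self_mem_conjClass B
      · intro hB
        rw [← hr2] at hB
        exact ⟨hclosed _ hr1 B hB, by rw [conjClass_eq_of_mem hB, hr2]⟩
    rw [hfib]
    calc ∑ A ∈ conjClass (rep K), φ (wS' A) (aS A) = ∑ _A ∈ conjClass (rep K), φ (wf K) (af K) :=
          Finset.sum_congr rfl fun B hB => by
            obtain ⟨e1, e2⟩ := hinv_a _ _ hB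
            rw [e1, e2]
      _ = _ := by rw [Finset.sum_const, nsmul_eq_mul, card_conjClass_cast]
  -- element count
  set 𝒬 := conjClass Q with h𝒬
  have hti : ∀ P ∈ 𝒬, ∀ P' ∈ 𝒬, ∀ x : M, x ∈ P → x ∈ P' → x ≠ 1 → P = P' := by
    intro P hP P' hP' x hx hx' hx1
    obtain ⟨y, rfl⟩ := mem_conjClass.mp hP
    obtain ⟨y', rfl⟩ := mem_conjClass.mp hP'
    rw [mem_map_conj_iff] at hx hx'
    rw [map_conj_eq_iff]
    refine S.ti _ _ hx ?_ (fun h => hx1 (by
      calc x = y * (y⁻¹ * x * y) * y⁻¹ := by group
        _ = 1 := by rw [h]; group))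
    simpa [mul_assoc] using hx'
  have hQcard : ∀ P ∈ 𝒬, Nat.card P = s := fun P hP => by
    obtain ⟨y, rfl⟩ := mem_conjClass.mp hP
    exact Subgroup.card_map_of_injective (MulAut.conj y).injective
  have hn𝒬 : 𝒬.card = n := card_conjClass Q
  have hcountQ : (Finset.univ.filter fun g : M => g ≠ 1 ∧ inQ g).card = n * (s - 1) := by
    have hcover : (Finset.univ.filter fun g : M => g ≠ 1 ∧ inQ g) =
        𝒬.biUnion fun P => Finset.univ.filter fun g : M => g ∈ P ∧ g ≠ 1 := by
      ext g
      simp only [Finset.mem_filter, Finset.mem_univ, true_and, Finset.mem_biUnion]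
      constructor
      · rintro ⟨hg1, x, hx⟩
        exact ⟨_, mem_conjClass.mpr ⟨x, rfl⟩, (mem_map_conj_iff Q x g).mpr hx, hg1⟩
      · rintro ⟨P, hP, hgP, hg1⟩
        obtain ⟨y, rfl⟩ := mem_conjClass.mp hP
        exact ⟨hg1, y, (mem_map_conj_iff Q y g).mp hgP⟩
    rw [hcover, Finset.card_biUnion]
    · rw [← hn𝒬, ← smul_eq_mul, ← Finset.sum_const]
      refine Finset.sum_congr rfl fun P hP => ?_
      rw [← hQcard P hP, Nat.card_eq_fintype_card, Fintype.card_subtype,
        ← Finset.card_erase_of_mem (Finset.mem_filter.mpr ⟨Finset.mem_univ _, P.one_mem⟩)]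
      congr 1
      ext g; simp [and_comm]
    · intro P hP P' hP' hne
      simp only [Function.onFun, Finset.disjoint_left, Finset.mem_filter, Finset.mem_univ, true_and]
      rintro g ⟨hgP, hg1⟩ ⟨hgP', -⟩
      exact hne (hti P hP P' hP' g hgP hgP' hg1)
  have hcountU : U.card = ∑ A ∈ 𝒜, (Nat.card A - 1) := by
    rw [Finset.card_eq_sum_card_image (fun g => Subgroup.centralizer ({g} : Set M)) U]
    refine Finset.sum_congr rfl fun A hA' => ?_
    rw [Nat.card_eq_fintype_card, Fintype.card_subtype,
      ← Finset.card_erase_of_mem (Finset.mem_filter.mpr ⟨Finset.mem_univ _, A.one_mem⟩)]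
    congr 1
    ext g
    simp only [Finset.mem_filter, Finset.mem_erase, Finset.mem_univ, true_and]
    constructor
    · rintro ⟨hg, rfl⟩
      exact ⟨((Finset.mem_filter.mp hg).2).1, Subgroup.mem_centralizer_singleton_iff.mpr rfl⟩
    · rintro ⟨hg1, hgA⟩
      exact (hA A hA').2.2.2.1 g hgA hg1
  have heq1 : Nat.card M = 1 + n * (s - 1) + ∑ A ∈ 𝒜, (Nat.card A - 1) := by
    rw [← hcountU, ← hcountQ, Nat.card_eq_fintype_card, ← Finset.card_univ,
      ← Finset.card_filter_add_card_filter_not (s := Finset.univ) (fun g : M => g = 1)]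
    rw [Finset.filter_eq' Finset.univ (1 : M), if_pos (Finset.mem_univ _), Finset.card_singleton, add_assoc]
    congr 1
    rw [← Finset.card_filter_add_card_filter_not (s := Finset.univ.filter fun g : M => ¬ g = 1) inQ,
      Finset.filter_filter, Finset.filter_filter]
  -- involutions
  set I := Finset.univ.filter (fun g : M => orderOf g = 2) with hI
  have hIQ : ∀ P ∈ 𝒬, (I.filter fun g => g ∈ P).card = c := by
    intro P hP
    obtain ⟨y, rfl⟩ := mem_conjClass.mp hP
    rw [← S.card_inv, Nat.card_eq_fintype_card, Fintype.card_subtype]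
    refine Finset.card_bij (fun g _ => y⁻¹ * g * y) ?_ ?_ ?_
    · intro g hg
      simp only [hI, Finset.mem_filter, Finset.mem_univ, true_and] at hg ⊢
      refine ⟨(mem_map_conj_iff Q y g).mp hg.2, ?_⟩
      rw [show y⁻¹ * g * y = MulAut.conj y⁻¹ g by simp, MulEquiv.orderOf_eq, hg.1]
    · intro a _ b _ h; simpa using h
    · intro b hb
      simp only [Finset.mem_filter, Finset.mem_univ, true_and] at hb
      refine ⟨y * b * y⁻¹, ?_, by group⟩
      simp only [hI, Finset.mem_filter, Finset.mem_univ, true_and]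
      refine ⟨?_, (mem_map_conj_iff Q y _).mpr (by simpa [mul_assoc] using hb.1)⟩
      rw [show y * b * y⁻¹ = MulAut.conj y b by simp, MulEquiv.orderOf_eq, hb.2]
  have hIcard : I.card = n * c := by
    have hcover : I = 𝒬.biUnion fun P => I.filter fun g => g ∈ P := by
      ext g
      simp only [Finset.mem_biUnion, Finset.mem_filter]
      constructor
      · intro hg
        obtain ⟨x, hx⟩ := hinvQ g (Finset.mem_filter.mp hg).2
        exact ⟨_, mem_conjClass.mpr ⟨x, rfl⟩, hg, (mem_map_conj_iff Q x g).mpr hx⟩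
      · rintro ⟨P, -, hg, -⟩; exact hg
    rw [hcover, Finset.card_biUnion]
    · rw [Finset.sum_congr rfl hIQ, Finset.sum_const, smul_eq_mul, hn𝒬]
    · intro P hP P' hP' hne
      simp only [Function.onFun, Finset.disjoint_left, Finset.mem_filter]
      rintro g ⟨hgI, hgP⟩ ⟨-, hgP'⟩
      exact hne (hti P hP P' hP' g hgP hgP' (orderOf_two_iff.mp (Finset.mem_filter.mp hgI).2).2)
  have hIN : ∀ P ∈ 𝒬, ∀ i : M, orderOf i = 2 → (∀ z ∈ P, i * z * i⁻¹ ∈ P) → i ∈ P := by
    intro P hP i hi hnorm
    obtain ⟨y, rfl⟩ := mem_conjClass.mp hP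
    rw [mem_map_conj_iff]
    have hN : y⁻¹ * i * y ∈ N := by
      rw [hNdef]
      refine Subgroup.mem_normalizer_fintype fun z hz => ?_
      have := hnorm (y * z * y⁻¹) ((mem_map_conj_iff Q y _).mpr (by simpa [mul_assoc] using hz))
      rw [mem_map_conj_iff] at this
      simpa [mul_assoc] using this
    have hord : orderOf (y⁻¹ * i * y) = 2 := by
      rw [show y⁻¹ * i * y = MulAut.conj y⁻¹ i by simp, MulEquiv.orderOf_eq, hi]
    haveI : (Q.subgroupOf N).Normal := Subgroup.normal_in_normalizer
    set z : N := ⟨_, hN⟩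
    have h2 : orderOf (QuotientGroup.mk' (Q.subgroupOf N) z) ∣ 2 := by
      refine (orderOf_map_dvd _ z).trans ?_
      rw [← Subgroup.orderOf_coe, hord]
    have hc' : orderOf (QuotientGroup.mk' (Q.subgroupOf N) z) ∣ c := by
      refine (orderOf_dvd_natCard _).trans (dvd_of_eq ?_)
      have h := (Q.subgroupOf N).index_mul_card
      rw [Nat.card_congr (Subgroup.subgroupOfEquivOfLe Subgroup.le_normalizer).toEquiv, S.normalizer_card] at h
      rw [← Subgroup.index_eq_card]
      exact Nat.eq_of_mul_eq_mul_right Nat.card_pos (h.trans (mul_comm _ _))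
    have h1 : orderOf (QuotientGroup.mk' (Q.subgroupOf N) z) = 1 := by
      have := Nat.dvd_gcd h2 hc'
      rw [(Nat.coprime_two_left.mpr hcodd : Nat.gcd 2 c = 1)] at this
      exact Nat.dvd_one.mp this
    rw [orderOf_eq_one_iff, QuotientGroup.mk'_apply, QuotientGroup.eq_one_iff] at h1
    exact h1
  have hcentmem : ∀ A ∈ 𝒜, ∀ i : M, orderOf i = 2 → i ∈ Subgroup.normalizer (A : Set M) →
      ∀ a ∈ A, i * a * i⁻¹ = a⁻¹ := by
    intro A hA' i hi hiN a ha
    obtain ⟨hodd, -, -, hcen, -⟩ := hA A hA'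
    obtain ⟨hii, -⟩ := orderOf_two_iff.mp hi
    set b := i * a * i⁻¹ with hb
    have hbA : b ∈ A := (Subgroup.mem_normalizer_iff.mp hiN a).mp ha
    by_contra hne
    have hfix : i * (a * b) * i⁻¹ = a * b := by
      have hbb : i * b * i⁻¹ = a := by
        rw [hb, inv_eq_of_mul_eq_one_right hii]
        calc i * (i * a * i) * i = (i * i) * a * (i * i) := by group
          _ = a := by rw [hii]; simp
      have hab : b * a = a * b := by
        by_cases ha1 : a = 1
        · simp [ha1]
        have := (hcen a ha ha1).2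
        exact Subgroup.mem_centralizer_singleton_iff.mp (this ▸ hbA)
      calc i * (a * b) * i⁻¹ = (i * a * i⁻¹) * (i * b * i⁻¹) := by group
        _ = b * a := by rw [hbb]
        _ = a * b := hab
    by_cases hab1 : a * b = 1
    · exact hne (eq_inv_of_mul_eq_one_right hab1)
    have hmem : i ∈ Subgroup.centralizer ({a * b} : Set M) := by
      rw [Subgroup.mem_centralizer_singleton_iff]
      calc i * (a * b) = i * (a * b) * i⁻¹ * i := by group
        _ = a * b * i := by rw [hfix]
    rw [(hcen _ (A.mul_mem ha hbA) hab1).2] at hmem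
    exact orderOf_two_mem_of_odd hodd hi hmem
  have hpairQ : ((I.offDiag).filter fun p => inQ (p.1 * p.2)).card = n * (c * c - c) := by
    have hcover : (I.offDiag).filter (fun p => inQ (p.1 * p.2)) =
        𝒬.biUnion fun P => (I.filter fun g => g ∈ P).offDiag := by
      ext ⟨i, j⟩
      simp only [Finset.mem_filter, Finset.mem_offDiag, Finset.mem_biUnion]
      constructor
      · rintro ⟨⟨hi, hj, hne⟩, x, hx⟩
        have hi2 := (Finset.mem_filter.mp hi).2
        have hj2 := (Finset.mem_filter.mp hj).2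
        have hP : Q.map (MulAut.conj x).toMonoidHom ∈ 𝒬 := mem_conjClass.mpr ⟨x, rfl⟩
        set P := Q.map (MulAut.conj x).toMonoidHom
        have hijP : i * j ∈ P := (mem_map_conj_iff Q x _).mpr hx
        have hij1 : i * j ≠ 1 := fun h => hne (by
          rw [eq_inv_of_mul_eq_one_left h, inv_eq_of_mul_eq_one_right (orderOf_two_iff.mp hj2).1])
        have hiP : i ∈ P := by
          refine hIN P hP i hi2 ?_
          have hP' : P.map (MulAut.conj i).toMonoidHom ∈ 𝒬 := by
            refine mem_conjClass.mpr ⟨i * x, ?_⟩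
            rw [Subgroup.map_map]; congr 1; ext z; simp [mul_assoc]
          have hmem : (i * j)⁻¹ ∈ P.map (MulAut.conj i).toMonoidHom :=
            ⟨i * j, hijP, invert_pair (orderOf_two_iff.mp hi2).1 (orderOf_two_iff.mp hj2).1⟩
          have heqP := hti P hP _ hP' _ (P.inv_mem hijP) hmem (inv_ne_one.mpr hij1)
          intro z hz
          rw [heqP]
          exact ⟨z, hz, rfl⟩
        refine ⟨P, hP, ⟨hi, hiP⟩, ⟨hj, ?_⟩, hne⟩
        simpa using P.mul_mem (P.inv_mem hiP) hijP
      · rintro ⟨P, hP, ⟨hi, hiP⟩, ⟨hj, hjP⟩, hne⟩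
        obtain ⟨y, rfl⟩ := mem_conjClass.mp hP
        exact ⟨⟨hi, hj, hne⟩, y, (mem_map_conj_iff Q y _).mp (mul_mem hiP hjP)⟩
    rw [hcover, Finset.card_biUnion]
    · rw [← hn𝒬, ← smul_eq_mul, ← Finset.sum_const]
      refine Finset.sum_congr rfl fun P hP => ?_
      rw [Finset.offDiag_card, hIQ P hP]
    · intro P hP P' hP' hne
      simp only [Function.onFun, Finset.disjoint_left, Finset.mem_offDiag, Finset.mem_filter]
      rintro p ⟨⟨hi, hiP⟩, -, -⟩ ⟨⟨-, hiP'⟩, -, -⟩
      exact hne (hti P hP P' hP' p.1 hiP hiP' (orderOf_two_iff.mp (Finset.mem_filter.mp hi).2).2)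
  have hpairU : ((I.offDiag).filter fun p => ¬ inQ (p.1 * p.2)).card =
      ∑ A ∈ 𝒜, if Even (wS' A) then Nat.card A * Nat.card A - Nat.card A else 0 := by
    rw [Finset.card_eq_sum_card_fiberwise (f := fun p : M × M => Subgroup.centralizer ({p.1 * p.2} : Set M)) (t := 𝒜)]
    · refine Finset.sum_congr rfl fun A hA' => ?_
      obtain ⟨hodd, -, -, hcen, hw⟩ := hA A hA'
      set N' := Subgroup.normalizer (A : Set M)
      have hfib : ((I.offDiag).filter fun p => ¬ inQ (p.1 * p.2)).filter
          (fun p => Subgroup.centralizer ({p.1 * p.2} : Set M) = A) = (I.filter fun g => g ∈ N').offDiag := by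
        ext ⟨i, j⟩
        simp only [Finset.mem_filter, Finset.mem_offDiag]
        constructor
        · rintro ⟨⟨⟨hi, hj, hne⟩, -⟩, hAeq⟩
          have hi2 := orderOf_two_iff.mp (Finset.mem_filter.mp hi).2
          have hj2 := orderOf_two_iff.mp (Finset.mem_filter.mp hj).2
          have hiN : i ∈ N' := by
            refine Subgroup.mem_normalizer_fintype fun z hz => ?_
            rw [SetLike.mem_coe, ← hAeq, Subgroup.mem_centralizer_singleton_iff] at hz ⊢
            have h' : z * (i * j)⁻¹ = (i * j)⁻¹ * z := (Commute.inv_right hz).eq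
            have e : i * (i * j) * i⁻¹ = (i * j)⁻¹ := invert_pair hi2.1 hj2.1
            have e' : i * (i * j)⁻¹ * i⁻¹ = i * j := by
              have := congrArg (·⁻¹) e
              simpa [mul_assoc] using this
            calc i * z * i⁻¹ * (i * j) = i * z * i⁻¹ * (i * (i * j)⁻¹ * i⁻¹) := by rw [e']
              _ = i * (z * (i * j)⁻¹) * i⁻¹ := by group
              _ = i * ((i * j)⁻¹ * z) * i⁻¹ := by rw [h']
              _ = (i * (i * j)⁻¹ * i⁻¹) * (i * z * i⁻¹) := by group
              _ = i * j * (i * z * i⁻¹) := by rw [e']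
          have hijA : i * j ∈ N' := Subgroup.le_normalizer
            (hAeq ▸ Subgroup.mem_centralizer_singleton_iff.mpr rfl)
          exact ⟨⟨hi, hiN⟩, ⟨hj, by simpa using N'.mul_mem (N'.inv_mem hiN) hijA⟩, hne⟩
        · rintro ⟨⟨hi, hiN⟩, ⟨hj, hjN⟩, hne⟩
          have hi2 := (Finset.mem_filter.mp hi).2
          have hj2 := (Finset.mem_filter.mp hj).2
          have hijA : i * j ∈ A := by
            have hne1 : ∃ a ∈ A, a ≠ 1 := by
              obtain ⟨g₀, hg₀, hgA₀⟩ := Finset.mem_image.mp hA'
              exact ⟨g₀, hgA₀ ▸ Subgroup.mem_centralizer_singleton_iff.mpr rfl, (Finset.mem_filter.mp hg₀).2.1⟩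
            obtain ⟨a, ha, ha1⟩ := hne1
            rw [← (hcen a ha ha1).2, Subgroup.mem_centralizer_singleton_iff]
            have h1 := hcentmem A hA' i hi2 hiN a⁻¹ (A.inv_mem ha)
            have h2 := hcentmem A hA' j hj2 hjN a ha
            rw [inv_inv] at h1
            calc i * j * a = i * (j * a * j⁻¹) * i⁻¹ * (i * j) := by group
              _ = a * (i * j) := by rw [h2, h1]
          have hij1 : i * j ≠ 1 := fun h => hne (by
            rw [eq_inv_of_mul_eq_one_left h, inv_eq_of_mul_eq_one_right (orderOf_two_iff.mp hj2).1])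
          obtain ⟨hU', hC'⟩ := hcen _ hijA hij1
          exact ⟨⟨⟨hi, hj, hne⟩, ((Finset.mem_filter.mp hU').2).2⟩, hC'⟩
      rw [hfib, Finset.offDiag_card]
      by_cases hev : Even (wS' A)
      · rw [if_pos hev]
        have hN2 : 2 ∣ Nat.card N' := by
          rw [card_normalizer_eq]
          exact (even_iff_two_dvd.mp hev).mul_right _
        obtain ⟨t, ht⟩ := exists_prime_orderOf_dvd_card' (G := N') 2 hN2
        have ht2 : orderOf (t : M) = 2 := by rw [Subgroup.orderOf_coe, ht]
        have hcardI : (I.filter fun g => g ∈ N').card = Nat.card A := by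
          rw [Nat.card_eq_fintype_card, Fintype.card_subtype]
          refine Finset.card_bij (fun g _ => (t : M) * g) ?_ ?_ ?_
          · intro g hg
            obtain ⟨hgI, hgN⟩ := Finset.mem_filter.mp hg
            have hg2 := (Finset.mem_filter.mp hgI).2
            simp only [Finset.mem_filter, Finset.mem_univ, true_and]
            obtain ⟨a, ha, ha1⟩ : ∃ a ∈ A, a ≠ 1 := by
              obtain ⟨g₀, hg₀, hgA₀⟩ := Finset.mem_image.mp hA'
              exact ⟨g₀, hgA₀ ▸ Subgroup.mem_centralizer_singleton_iff.mpr rfl, (Finset.mem_filter.mp hg₀).2.1⟩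
            rw [← (hcen a ha ha1).2, Subgroup.mem_centralizer_singleton_iff]
            have h1 := hcentmem A hA' (t : M) ht2 t.2 a⁻¹ (A.inv_mem ha)
            have h2 := hcentmem A hA' g hg2 hgN a ha
            rw [inv_inv] at h1
            calc (t : M) * g * a = (t : M) * (g * a * g⁻¹) * (t : M)⁻¹ * ((t : M) * g) := by group
              _ = a * ((t : M) * g) := by rw [h2, h1]
          · intro a _ b _ h; exact mul_left_cancel h
          · intro b hb
            simp only [Finset.mem_filter, Finset.mem_univ, true_and] at hb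
            obtain ⟨htt, ht1⟩ := orderOf_two_iff.mp ht2
            refine ⟨(t : M) * b, ?_, by rw [← mul_assoc, htt, one_mul]⟩
            simp only [hI, Finset.mem_filter, Finset.mem_univ, true_and]
            refine ⟨?_, N'.mul_mem t.2 (Subgroup.le_normalizer hb)⟩
            rw [orderOf_two_iff]
            constructor
            · calc (t : M) * b * ((t : M) * b) = ((t : M) * b * (t : M)⁻¹) * ((t : M) * (t : M)) * b := by group
                _ = 1 := by rw [hcentmem A hA' _ ht2 t.2 b hb, htt]; simp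
            · intro h
              exact orderOf_two_mem_of_odd hodd ht2 (eq_inv_of_mul_eq_one_left h ▸ A.inv_mem hb)
        rw [hcardI]
      · rw [if_neg hev]
        have hempty : (I.filter fun g => g ∈ N') = ∅ := by
          rw [Finset.filter_eq_empty_iff]
          intro g hg hgN
          have hd := N'.orderOf_dvd_natCard hgN
          rw [(Finset.mem_filter.mp hg).2, card_normalizer_eq] at hd
          rcases Nat.prime_two.dvd_mul.mp hd with h | h
          · exact hev (even_iff_two_dvd.mpr h)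
          · exact Nat.not_even_iff_odd.mpr hodd (even_iff_two_dvd.mpr h)
        rw [hempty]; simp
    · intro p hp
      simp only [Finset.coe_filter, Set.mem_setOf_eq, Finset.mem_offDiag] at hp
      obtain ⟨⟨hi, hj, hne⟩, hq⟩ := hp
      refine Finset.mem_image.mpr ⟨_, Finset.mem_filter.mpr ⟨Finset.mem_univ _, fun h => hne ?_, hq⟩, rfl⟩
      rw [eq_inv_of_mul_eq_one_left h,
        inv_eq_of_mul_eq_one_right (orderOf_two_iff.mp (Finset.mem_filter.mp hj).2).1]
  -- numeric data
  have hk : ∃ k, n = 1 + k * s := by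
    have hQS : MulAction.stabilizer Q ((1 : M) : M ⧸ N) = ⊤ := by
      rw [eq_top_iff]
      intro q _
      show ((q : M) • ((1 : M) : M ⧸ N)) = _
      rw [MulAction.Quotient.smul_mk, QuotientGroup.eq, smul_eq_mul, mul_one, mul_one]
      exact N.inv_mem (Subgroup.le_normalizer q.2)
    have hfree : ∀ x : M, ∀ q : Q, q • ((x : M) : M ⧸ N) = (x : M ⧸ N) → x ∉ N → q = 1 := by
      intro x q hq hx
      by_contra hq1
      have hq' : (q : M) • ((x : M) : M ⧸ N) = (x : M ⧸ N) := hq
      rw [MulAction.Quotient.smul_mk, QuotientGroup.eq, smul_eq_mul] at hq'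
      have hconj : x⁻¹ * (q : M) * x ∈ N := by
        have := N.inv_mem hq'
        simpa [mul_assoc] using this
      -- a 2-element of the normalizer lies in `Q`
      have hQmem : x⁻¹ * (q : M) * x ∈ Q := by
        haveI : (Q.subgroupOf N).Normal := Subgroup.normal_in_normalizer
        set z : N := ⟨_, hconj⟩
        obtain ⟨i, hi⟩ := IsPGroup.iff_orderOf.mp S.two q
        have h2 : orderOf (QuotientGroup.mk' (Q.subgroupOf N) z) ∣ 2 ^ i := by
          refine (orderOf_map_dvd _ z).trans (dvd_of_eq ?_)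
          rw [← Subgroup.orderOf_coe]
          show orderOf (x⁻¹ * (q : M) * x) = _
          rw [show x⁻¹ * (q : M) * x = MulAut.conj x⁻¹ (q : M) by simp, MulEquiv.orderOf_eq,
            Subgroup.orderOf_coe, hi]
        have hc' : orderOf (QuotientGroup.mk' (Q.subgroupOf N) z) ∣ c := by
          refine (orderOf_dvd_natCard _).trans (dvd_of_eq ?_)
          have h := (Q.subgroupOf N).index_mul_card
          rw [Nat.card_congr (Subgroup.subgroupOfEquivOfLe Subgroup.le_normalizer).toEquiv, S.normalizer_card] at h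
          rw [← Subgroup.index_eq_card]
          exact Nat.eq_of_mul_eq_mul_right Nat.card_pos (h.trans (mul_comm _ _))
        have := Nat.dvd_gcd h2 hc'
        rw [(Nat.Coprime.pow_left i (Nat.coprime_two_left.mpr hcodd) : Nat.gcd (2 ^ i) c = 1)] at this
        have h1 := orderOf_eq_one_iff.mp (Nat.dvd_one.mp this)
        rw [QuotientGroup.mk'_apply, QuotientGroup.eq_one_iff] at h1
        exact h1
      exact hx (S.ti x q q.2 hQmem (fun h => hq1 (Subtype.ext h)))
    set O : Finset (M ⧸ N) := Finset.univ.filter (fun y => y ≠ ((1 : M) : M ⧸ N))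
    have hO : s ∣ O.card := by
      let act : MulAction Q {y : M ⧸ N // y ≠ ((1 : M) : M ⧸ N)} :=
        { smul := fun q y => ⟨q • y.1, fun h => y.2 (by
            have hq : q⁻¹ • ((1 : M) : M ⧸ N) = ((1 : M) : M ⧸ N) := (hQS ▸ trivial : q⁻¹ ∈ MulAction.stabilizer Q _)
            rw [← inv_smul_smul q y.1, h]; exact hq)⟩
          one_smul := fun y => Subtype.ext (one_smul Q y.1)
          mul_smul := fun a b y => Subtype.ext (mul_smul a b y.1) }
      rw [← Fintype.card_subtype, ← Nat.card_eq_fintype_card,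
        Nat.card_congr (MulAction.selfEquivSigmaOrbits Q {y : M ⧸ N // y ≠ ((1 : M) : M ⧸ N)}), Nat.card_sigma]
      refine Finset.dvd_sum fun ω _ => dvd_of_eq ?_
      rw [Nat.card_congr (MulAction.orbitEquivQuotientStabilizer Q ω.out)]
      have hbot : MulAction.stabilizer Q ω.out = ⊥ := by
        rw [eq_bot_iff]
        intro q hq
        obtain ⟨x, hx⟩ := QuotientGroup.mk_surjective ω.out.1
        refine hfree x q ?_ ?_
        · rw [hx]; exact congrArg Subtype.val (MulAction.mem_stabilizer_iff.mp hq)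
        · intro hxN
          apply ω.out.2
          rw [← hx, QuotientGroup.eq]; simpa using hxN
      rw [← Subgroup.index_eq_card, hbot, Subgroup.index_bot]
    obtain ⟨k, hk⟩ := hO
    refine ⟨k, ?_⟩
    have h1 : O.card + 1 = n := by
      rw [hn, Subgroup.index_eq_card, Nat.card_eq_fintype_card, ← Finset.card_univ,
        ← Finset.card_filter_add_card_filter_not (s := Finset.univ) (fun y => y ≠ ((1 : M) : M ⧸ N))]
      congr 1
      simp [Finset.filter_eq']
    rw [← h1, hk]; ring
  have hcs : c + 1 ∣ s := by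
    have hle : c + 1 ≤ s := by
      have h := Finset.card_le_card (show insert (1 : M) (Finset.univ.filter fun x => x ∈ Q ∧ orderOf x = 2) ⊆
          Finset.univ.filter (fun x => x ∈ Q) by
        intro x hx
        simp only [Finset.mem_insert, Finset.mem_filter, Finset.mem_univ, true_and] at hx ⊢
        rcases hx with rfl | hx
        · exact Q.one_mem
        · exact hx.1)
      rw [Finset.card_insert_of_notMem (by simp), ← Fintype.card_subtype, ← Fintype.card_subtype,
        ← Nat.card_eq_fintype_card, ← Nat.card_eq_fintype_card, S.card_inv] at h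
      exact h
    rw [hs, hf, he] at *
    exact pow_dvd_pow 2 ((Nat.pow_le_pow_iff_right (by norm_num)).mp hle)
  have hnum := counting_solve R af wf (C0 := conjClass C) (Finset.mem_image_of_mem _ hCmem) hc7
    (n := n) (s := s) (g := Nat.card M)
    (by
      obtain ⟨hr1, hr2⟩ := hrep _ (Finset.mem_image_of_mem _ hCmem)
      rw [← S.card_C]
      have hm : rep (conjClass C) ∈ conjClass C := by
        have h0 := self_mem_conjClass (rep (conjClass C))
        rw [hr2] at h0
        exact h0
      exact (hinv_a C _ hm).1)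
    (by
      obtain ⟨hr1, hr2⟩ := hrep _ (Finset.mem_image_of_mem _ hCmem)
      have hm : rep (conjClass C) ∈ conjClass C := by
        have h0 := self_mem_conjClass (rep (conjClass C))
        rw [hr2] at h0
        exact h0
      have := (hinv_a C _ hm).2
      show wS' (rep (conjClass C)) ∣ 2
      rw [this]; exact S.weyl_C)
    hg hn1 hk ⟨f, hf⟩ ⟨e, he, heodd⟩ hcs
    (by
      intro hse K hK
      obtain ⟨hr1, -⟩ := hrep K hK
      obtain ⟨hodd, -, -, hcen, hw4⟩ := hA _ hr1
      set A := rep K
      rcases (Nat.dvd_prime_pow Nat.prime_two (m := 2)).mp (by norm_num; exact hw4) with ⟨j, hj, hwj⟩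
      show wS' A ∣ 2
      by_contra hcon
      have hj2 : j = 2 := by
        by_contra
        apply hcon
        show A.relIndex _ ∣ 2
        rw [hwj]
        interval_cases j <;> norm_num at *
      subst hj2
      haveI : (A.subgroupOf (Subgroup.normalizer (A : Set M))).Normal := Subgroup.normal_in_normalizer
      obtain ⟨T, hT⟩ := Sylow.exists_subgroup_card_pow_prime (G := Subgroup.normalizer (A : Set M)) 2 (n := 2)
        (by rw [card_normalizer_eq, hwj]; exact dvd_mul_right _ _)
      have hsq : ∀ t ∈ T, t * t = 1 := by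
        intro t ht
        have h4 : t ^ 4 = 1 := by
          have hcard : Nat.card T = 4 := by rw [hT]; norm_num
          have := congrArg Subtype.val (pow_card_eq_one' (x := (⟨t, ht⟩ : T)))
          rwa [hcard] at this
        have := S.elem hse (t : M) (by rw [← Subgroup.coe_pow, h4]; rfl)
        rw [sq] at this
        exact Subtype.ext this
      haveI : Nontrivial T := by rw [← Finite.one_lt_card_iff_nontrivial, hT]; norm_num
      obtain ⟨u, hu⟩ := exists_ne (1 : T)
      obtain ⟨v, -, hv⟩ := Finset.exists_mem_notMem_of_card_lt_card (s := {1, u}) (t := (Finset.univ : Finset T))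
        (lt_of_le_of_lt Finset.card_le_two (by
          rw [Finset.card_univ, ← Nat.card_eq_fintype_card, hT]; norm_num))
      simp only [Finset.mem_insert, Finset.mem_singleton, not_or] at hv
      have hord : ∀ w : T, w ≠ 1 → orderOf ((w : Subgroup.normalizer (A : Set M)) : M) = 2 := by
        intro w hw
        rw [orderOf_two_iff]
        refine ⟨congrArg Subtype.val (hsq w.1 w.2), fun h => hw (Subtype.ext (Subtype.ext h))⟩
      have huv : (u * v : T) ≠ 1 := by
        intro h
        apply hv.2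
        have := congrArg (u * ·) h
        simp only [mul_one] at this
        rw [← this, ← mul_assoc, show u * u = 1 from Subtype.ext (hsq u.1 u.2), one_mul]
      obtain ⟨a, ha, ha1⟩ : ∃ a ∈ A, a ≠ 1 := by
        obtain ⟨g, hg, hgA⟩ := Finset.mem_image.mp hr1
        exact ⟨g, hgA ▸ Subgroup.mem_centralizer_singleton_iff.mpr rfl, (Finset.mem_filter.mp hg).2.1⟩
      have hmem : ((u * v : T) : Subgroup.normalizer (A : Set M)).1 ∈ A := by
        refine (hcen a ha ha1).2.le (Subgroup.mem_centralizer_singleton_iff.mpr ?_)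
        set i : M := ((u : T) : Subgroup.normalizer (A : Set M)).1
        set k : M := ((v : T) : Subgroup.normalizer (A : Set M)).1
        show i * k * a = a * (i * k)
        have h1 := hcentmem A hr1 i (hord u hu) (u.1).2 a⁻¹ (A.inv_mem ha)
        have h2 := hcentmem A hr1 k (hord v hv.1) (v.1).2 a ha
        rw [inv_inv] at h1
        calc i * k * a = i * (k * a * k⁻¹) * i⁻¹ * (i * k) := by group
          _ = a * (i * k) := by rw [h2, h1]
      exact orderOf_two_mem_of_odd hodd (hord _ huv) hmem)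
    S.big
    (fun K hK => (hA _ (hrep K hK).1).2.2.2.2)
    (fun K hK => (hA _ (hrep K hK).1).2.1)
    (fun K hK => (hA _ (hrep K hK).1).2.2.1)
    (by
      have h := congrArg (fun z : ℕ => (z : ℚ)) heq1
      push_cast at h
      rw [Nat.cast_sub (show 1 ≤ s from Nat.card_pos)] at h
      have hs' : ∑ A ∈ 𝒜, ((Nat.card A - 1 : ℕ) : ℚ) = ∑ A ∈ 𝒜, ((aS A : ℚ) - 1) :=
        Finset.sum_congr rfl fun A _ => by rw [Nat.cast_sub (show 1 ≤ Nat.card A from Nat.card_pos)]; simp [aS]
      rw [hs', hsum (fun _ a => (a : ℚ) - 1)] at h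
      push_cast at h
      linear_combination h)
    (by
      have htot := Finset.card_filter_add_card_filter_not (s := I.offDiag) (fun p : M × M => inQ (p.1 * p.2))
      rw [hpairQ, hpairU, Finset.offDiag_card, hIcard] at htot
      have hle : n * c ≤ n * c * (n * c) := Nat.le_mul_self _
      have h := congrArg (fun z : ℕ => (z : ℚ)) htot
      push_cast [Nat.cast_sub hle, Nat.cast_sub (Nat.le_mul_self c)] at h
      have hs' : ∑ A ∈ 𝒜, ((if Even (wS' A) then Nat.card A * Nat.card A - Nat.card A else 0 : ℕ) : ℚ) =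
          ∑ A ∈ 𝒜, if Even (wS' A) then (aS A : ℚ) * ((aS A : ℚ) - 1) else 0 :=
        Finset.sum_congr rfl fun A _ => by
          split_ifs
          · rw [Nat.cast_sub (Nat.le_mul_self _)]; simp [aS]; ring
          · simp
      push_cast [Nat.cast_ite] at hs'
      rw [hs', hsum (fun w a => if Even w then (a : ℚ) * ((a : ℚ) - 1) else 0)] at h
      simp only [mul_ite, mul_zero] at h
      linear_combination -h)
  refine ⟨hnum.1, ?_⟩
  rw [hg, hnum.2]

end Main

end CfsgLib.SuzukiSub
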