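import Mathlib
import Cfsg.Prelude.Def_LieExceptional
import Cfsg.Agent.Lib.Suzuki.Summary
import Cfsg.Agent.Lib.SuzukiSub.Counting

/-!
Facts on subgroups of `Cfsg.Sz F m` used in their classification; the solvable subgroups.
-/

set_option autoImplicit false

namespace CfsgLib.SuzukiSub

open CfsgLib.Suzuki Matrix
open scoped Pointwise

variable {F : Type*} [Field F] [Fintype F] {m : ℕ}

local notation "Pt" => Projectivization F (Fin 4 → F)
set_option quotPrecheck false in
local notation "G" => ↥(Cfsg.Sz F m)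

/-- The orders of the three kinds of maximal cyclic subgroups of odd order. -/
abbrev torusOrders (m : ℕ) : Set ℕ :=
  {2 ^ (2 * m + 1) - 1, 2 ^ (2 * m + 1) + 2 ^ (m + 1) + 1, 2 ^ (2 * m + 1) - 2 ^ (m + 1) + 1}

theorem odd_of_torusOrders (hm : 1 ≤ m) {k : ℕ} (hk : k ∈ torusOrders m) : Odd k := by
  have h1 : 2 ^ (2 * m + 1) % 2 = 0 := by
    rw [← even_iff_two_dvd.mpr (dvd_pow_self 2 (by omega : 2 * m + 1 ≠ 0)) |> Nat.even_iff.mp]
  have h2 : 2 ^ (m + 1) % 2 = 0 :=
    Nat.even_iff.mp (even_iff_two_dvd.mpr (dvd_pow_self 2 (by omega)))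
  have h3 : 2 ^ (m + 1) ≤ 2 ^ (2 * m + 1) := Nat.pow_le_pow_right (by norm_num) (by omega)
  have h4 : 1 ≤ 2 ^ (2 * m + 1) := Nat.one_le_two_pow
  rw [Nat.odd_iff]
  rcases hk with rfl | rfl | rfl <;> omega

variable (h : SzHyp F m)
include h

theorem mem_borel_of_conj {g y : G} (hg : g ∈ tGroup h) (hne : g ≠ 1)
    (hy : y * g * y⁻¹ ∈ tGroup h) : y ∈ borel F m := by
  refine tS_fixed h hy (by rwa [Ne, conj_eq_one_iff]) (smul_ovoid y.2 pInf_mem) ?_
  change (y * g * y⁻¹) • (y • (pInf : Pt)) = y • (pInf : Pt)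
  rw [mul_smul, inv_smul_smul, mul_smul, fix_pInf_of_mem_tGroup h hg]

theorem borel_normalizes {y g : G} (hy : y ∈ borel F m) (hg : g ∈ tGroup h) :
    y * g * y⁻¹ ∈ tGroup h :=
  (Subgroup.mem_normalizer_iff.1 (by rw [normalizer_tGroup h]; exact hy) g).1 hg

theorem exists_conj_le_tGroup {H : Subgroup G} (hH : IsPGroup 2 H) :
    ∃ x : G, ∀ g ∈ H, x⁻¹ * g * x ∈ tGroup h := by
  obtain ⟨P, hP⟩ := hH.exists_le_sylow
  obtain ⟨x, hx⟩ := exists_map_tGroup h P
  exact ⟨x, fun g hg => mem_map_conj.1 (hx ▸ hP hg)⟩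

theorem exists_conj_mem_tGroup {g : G} (hg : ∃ i, orderOf g = 2 ^ i) :
    ∃ x : G, x⁻¹ * g * x ∈ tGroup h := by
  obtain ⟨i, hi⟩ := hg
  obtain ⟨x, hx⟩ := exists_conj_le_tGroup h (H := Subgroup.zpowers g)
    (IsPGroup.of_card (n := i) (by rw [Nat.card_zpowers, hi]))
  exact ⟨x, hx g (Subgroup.mem_zpowers g)⟩

theorem two_pow_of_mem_tGroup {g : G} (hg : g ∈ tGroup h) : ∃ i, orderOf g = 2 ^ i := by
  obtain ⟨i, hi⟩ := IsPGroup.iff_orderOf.1 (isPGroup_tGroup h) ⟨g, hg⟩
  exact ⟨i, by rwa [Subgroup.orderOf_mk] at hi⟩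

omit h in
theorem two_pow_conj {M : Type*} [Group M] {g x : M} (hg : ∃ i, orderOf (x⁻¹ * g * x) = 2 ^ i) :
    ∃ i, orderOf g = 2 ^ i := by
  obtain ⟨i, hi⟩ := hg
  exact ⟨i, by rwa [show x⁻¹ * g * x = MulAut.conj x⁻¹ g by simp, MulEquiv.orderOf_eq] at hi⟩

theorem not_three : ¬ 3 ∣ Nat.card G := by
  rw [CfsgLib.Suzuki.card h]
  have hq : 2 ^ (2 * m + 1) % 3 = 2 := by
    rw [pow_succ, pow_mul, Nat.mul_mod, Nat.pow_mod]; norm_num
  obtain ⟨q, hqdef⟩ : ∃ q, q = 2 ^ (2 * m + 1) := ⟨_, rfl⟩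
  rw [← hqdef] at hq ⊢
  intro hd
  rcases (Nat.Prime.dvd_mul Nat.prime_three).1 hd with h1 | h1
  · rcases (Nat.Prime.dvd_mul Nat.prime_three).1 h1 with h2 | h2
    · have := Nat.prime_three.dvd_of_dvd_pow h2; omega
    · rw [Nat.dvd_iff_mod_eq_zero, Nat.add_mod, Nat.pow_mod, hq] at h2; norm_num at h2
  · omega

/-- Facts on a cyclic subgroup of one of the torus orders. -/
theorem relIndex_normalizer {A : Subgroup G} (hA : IsCyclic A) (hc : Nat.card A ∈ torusOrders m) :
    A.relIndex (Subgroup.normalizer (A : Set G)) ∣ 4 ∧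
      (Nat.card A = 2 ^ (2 * m + 1) - 1 → A.relIndex (Subgroup.normalizer (A : Set G)) ∣ 2) := by
  have key : ∀ w : ℕ, Nat.card (Subgroup.normalizer (A : Set G)) = w * Nat.card A →
      A.relIndex (Subgroup.normalizer (A : Set G)) = w := fun w e => by
    rw [card_normalizer_eq] at e
    exact Nat.eq_of_mul_eq_mul_right Nat.card_pos e
  by_cases h1 : Nat.card A = 2 ^ (2 * m + 1) - 1
  · have h2 : A.relIndex (Subgroup.normalizer (A : Set G)) = 2 := by
      obtain ⟨x, rfl⟩ := eq_conj_torus h hA h1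
      refine key 2 ?_
      rw [map_conj_normalizer, Subgroup.card_map_of_injective (MulAut.conj x).injective,
        card_normalizer_torus h, Subgroup.card_map_of_injective (MulAut.conj x).injective,
        card_torus h]
    rw [h2]
    exact ⟨⟨2, rfl⟩, fun _ => dvd_rfl⟩
  · have hU := eq_exc_torus h hA (by
      rcases hc with e | e | e
      · exact absurd e h1
      · exact Or.inl e
      · exact Or.inr e)
    exact ⟨dvd_of_eq (key 4 (card_normalizer_exc h hU)), fun e => absurd e h1⟩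

theorem cent_of_not_two {g : G} (hg : ¬ ∃ i, orderOf g = 2 ^ i) :
    ∃ A : Subgroup G, Subgroup.centralizer {g} = A ∧ IsCyclic A ∧ Nat.card A ∈ torusOrders m ∧
      ∀ x ∈ A, x ≠ 1 → Subgroup.centralizer {x} = A :=
  (two_or_cyclic_centralizer h fun e => hg ⟨0, by rw [e, orderOf_one, pow_zero]⟩).resolve_left hg

omit h in
/-- A nontrivial solvable subgroup has a nontrivial abelian normal subgroup. -/
theorem exists_normal_abelian {M : Type*} [Group M] [Nontrivial M] (hs : Group.IsSolvable M) :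
    ∃ E : Subgroup M, E.Normal ∧ E ≠ ⊥ ∧ ∀ a ∈ E, ∀ b ∈ E, a * b = b * a := by
  obtain ⟨n, hn⟩ := (Group.isSolvable_def M).1 hs
  classical
  have hex : ∃ n, derivedSeries M n = ⊥ := ⟨n, hn⟩
  obtain ⟨j, hj⟩ : ∃ j, Nat.find hex = j + 1 := by
    refine ⟨Nat.find hex - 1, ?_⟩
    have : Nat.find hex ≠ 0 := fun e => by
      have := Nat.find_spec hex
      rw [e, derivedSeries_zero] at this
      exact top_ne_bot this
    omega
  refine ⟨derivedSeries M j, derivedSeries_normal M j, Nat.find_min hex (by omega), ?_⟩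
  have h0 := Nat.find_spec hex
  rw [hj, derivedSeries_succ, Subgroup.commutator_eq_bot_iff_le_centralizer] at h0
  intro a ha b hb
  exact (Subgroup.mem_centralizer_iff.1 (h0 ha) b hb).symm

/-- The solvable subgroups. -/
theorem solvable_cases (M : Subgroup G) (hs : Group.IsSolvable M) :
    (∃ P : Sylow 2 G, M ≤ Subgroup.normalizer ((P : Subgroup G) : Set G)) ∨
      (∃ U : Subgroup G, IsCyclic U ∧ Nat.card U ∈ torusOrders m ∧
        M ≤ Subgroup.normalizer (U : Set G)) := by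
  rcases subsingleton_or_nontrivial M with hM | hM
  · refine Or.inl ⟨Classical.arbitrary _, fun g hg => ?_⟩
    have e : (⟨g, hg⟩ : M) = 1 := Subsingleton.elim _ _
    rw [show g = 1 from congrArg Subtype.val e]
    exact one_mem _
  obtain ⟨E, hEn, hE1, hEc⟩ := exists_normal_abelian hs
  by_cases hall : ∀ e ∈ E, ∃ i, orderOf e = 2 ^ i
  · left
    have hp : IsPGroup 2 (E.map M.subtype) := IsPGroup.iff_orderOf.2 fun y => by
      obtain ⟨y, hy⟩ := y
      obtain ⟨e, he, rfl⟩ := Subgroup.mem_map.1 hy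
      obtain ⟨i, hi⟩ := hall e he
      exact ⟨i, (Subgroup.orderOf_mk _ hy).trans ((Subgroup.orderOf_coe e).trans hi)⟩
    obtain ⟨x, hx⟩ := exists_conj_le_tGroup h hp
    obtain ⟨e, he, hne⟩ : ∃ e ∈ E, e ≠ 1 := by
      by_contra hcon
      push Not at hcon
      exact hE1 ((Subgroup.eq_bot_iff_forall E).2 hcon)
    obtain ⟨P, hP⟩ : ∃ P : Sylow 2 G, (P : Subgroup G) = (tGroup h).map (MulAut.conj x).toMonoidHom :=
      ⟨x • tSylow h, rfl⟩
    refine ⟨P, fun g hg => ?_⟩
    rw [hP, map_conj_normalizer, normalizer_tGroup h, mem_map_conj]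
    have h1 := hx (e : G) (Subgroup.mem_map_of_mem M.subtype he)
    let g' : M := ⟨g, hg⟩
    have h2' : ((g' * e * g'⁻¹ : M) : G) ∈ E.map M.subtype :=
      Subgroup.mem_map_of_mem M.subtype (hEn.conj_mem e he g')
    have h2 := hx _ h2'
    rw [Subgroup.coe_mul, Subgroup.coe_mul, Subgroup.coe_inv] at h2
    refine mem_borel_of_conj h h1 ?_ ?_
    · intro e1
      exact hne (Subtype.ext (by
        calc (e : G) = x * (x⁻¹ * e * x) * x⁻¹ := by group
          _ = 1 := by rw [e1]; group))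
    · rw [show x⁻¹ * g * x * (x⁻¹ * (e : G) * x) * (x⁻¹ * g * x)⁻¹ =
        x⁻¹ * (g * e * g⁻¹) * x by group]
      exact h2
  · right
    push Not at hall
    obtain ⟨e, he, hne⟩ := hall
    obtain ⟨A, hA, hAc, hAo, hAti⟩ := cent_of_not_two h (g := (e : G)) (fun ⟨i, hi⟩ =>
      hne i (by rw [← hi, Subgroup.orderOf_coe]))
    refine ⟨A, hAc, hAo, fun g hg => ?_⟩
    have he1 : (e : G) ≠ 1 := fun e1 => hne 0 (by
      rw [pow_zero, orderOf_eq_one_iff]; exact Subtype.ext e1)
    have hmem : g * e * g⁻¹ ∈ A := by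
      rw [← hA, Subgroup.mem_centralizer_singleton_iff]
      exact congrArg Subtype.val (hEc _ (hEn.conj_mem e he ⟨g, hg⟩) e he)
    have heq := hAti _ hmem (by rwa [Ne, conj_eq_one_iff])
    rw [Subgroup.mem_normalizer_iff]
    intro n
    conv_lhs => rw [← hA]
    conv_rhs => rw [← heq]
    rw [Subgroup.mem_centralizer_singleton_iff, Subgroup.mem_centralizer_singleton_iff]
    constructor
    · intro c
      calc g * n * g⁻¹ * (g * e * g⁻¹) = g * (n * e) * g⁻¹ := by group
        _ = g * (e * n) * g⁻¹ := by rw [c]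
        _ = _ := by group
    · intro c
      calc n * e = g⁻¹ * (g * n * g⁻¹ * (g * e * g⁻¹)) * g := by group
        _ = g⁻¹ * ((g * e * g⁻¹) * (g * n * g⁻¹)) * g := by rw [c]
        _ = _ := by group

/-- A subgroup with cyclic Sylow 2-subgroups is solvable. -/
theorem isSolvable_of_cyclic_two (M : Subgroup G) (hP : ∀ P : Sylow 2 M, IsCyclic P) :
    Group.IsSolvable M := by
  have : IsZGroup M := by
    rw [isZGroup_iff]
    intro p hp P
    have := Fact.mk hp
    by_cases hp2 : p = 2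
    · subst hp2; exact hP P
    obtain ⟨P', hP'⟩ := (P.2.map M.subtype).exists_le_sylow
    have := sylow_odd_cyclic h hp2 P'
    let f : P →* P' :=
      (Subgroup.inclusion hP').comp ((P : Subgroup M).equivMapOfInjective M.subtype M.subtype_injective).toMonoidHom
    exact isCyclic_of_injective f
      ((Subgroup.inclusion_injective hP').comp (MulEquiv.injective _))
  infer_instance

end CfsgLib.SuzukiSub
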