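import Mathlib
import Cfsg.Prelude.Def_LieExceptional
import Cfsg.Agent.Lib.SuzukiSub.Basic

/-!
The structure of a non-solvable subgroup of `Cfsg.Sz F m` in adapted position.
-/

set_option autoImplicit false

namespace CfsgLib.SuzukiSub

open CfsgLib.Suzuki Matrix
open scoped Pointwise

variable {F : Type*} [Field F] [Fintype F] {m : ℕ}

local notation "Pt" => Projectivization F (Fin 4 → F)
set_option quotPrecheck false in
local notation "G" => ↥(Cfsg.Sz F m)

/-- A non-solvable subgroup with an involution fixing infinity and with split point stabiliser. -/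
structure Adapted (h : SzHyp F m) (M : Subgroup (Cfsg.Sz F m)) : Prop where
  nsolv : ¬ Group.IsSolvable M
  inv : ∃ b : F, b ≠ 0 ∧ tS h 0 b ∈ M
  split : ∀ (a b : F) (j : Fˣ), tS h a b * dS h j ∈ M → dS h j ∈ M

omit [Fintype F] in
/-- Injectivity of `j ↦ j θ(j)` in multiplicative form. -/
theorem nu_mul (i j : F) : i * j * sig m (i * j) = i * sig m i * (j * sig m j) := by
  rw [sig_mul]; ring

variable (h : SzHyp F m)
include h

theorem nu_injective {i j : Fˣ} (e : (i : F) * sig m (i : F) = (j : F) * sig m (j : F)) : i = j := by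
  have hj : sig m (j : F) ≠ 0 := fun e' => j.ne_zero (sig_eq_zero.1 e')
  have : ((i / j : Fˣ) : F) * sig m ((i / j : Fˣ) : F) = 1 := by
    rw [Units.val_div_eq_div_val, sig_div]
    field_simp
    linear_combination e
  exact div_eq_one.1 (Units.ext (h.eq_one_of_mul_sig this))

theorem tS_zero_mul (x y : F) : tS h 0 x * tS h 0 y = tS h 0 (x + y) := by
  rw [tS_mul, zero_add, sig_zero, zero_mul, add_zero]

theorem tS_central (a c x : F) : tS h a c * tS h 0 x = tS h 0 x * tS h a c := by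
  simp only [tS_mul, add_zero, zero_add, mul_zero, sig_zero, zero_mul, add_comm c x]

/-- Involutions of the translation group. -/
theorem involution_tS {g : G} (hg : g ∈ tGroup h) (ho : orderOf g = 2) :
    ∃ b : F, b ≠ 0 ∧ g = tS h 0 b := by
  obtain ⟨a, b, rfl⟩ := hg
  obtain ⟨h2, h1⟩ := orderOf_two_iff.1 ho
  rw [tS_sq, tS_eq_one] at h2
  have ha : a = 0 := by
    rcases mul_eq_zero.1 h2.2 with e | e
    exacts [sig_eq_zero.1 e, e]
  subst ha
  exact ⟨b, fun e => h1 ((tS_eq_one h).2 ⟨rfl, e⟩), rfl⟩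

theorem orderOf_tS_zero {b : F} (hb : b ≠ 0) : orderOf (tS h 0 b) = 2 :=
  orderOf_two_iff.2 ⟨by rw [tS_sq, mul_zero, tS_zero], fun e => hb ((tS_eq_one h).1 e).2⟩

theorem conj_mem_tGroup_iff_borel {g y : G} (hg : g ∈ tGroup h) (hne : g ≠ 1) :
    y * g * y⁻¹ ∈ tGroup h ↔ y ∈ borel F m :=
  ⟨mem_borel_of_conj h hg hne, fun hy => borel_normalizes h hy hg⟩

/-- An involution fixing infinity and one moving it are conjugate in their group. -/
theorem conj_of_moved {M : Subgroup G} {i j : G} (hi : i ∈ M) (hj : j ∈ M) (hiT : i ∈ tGroup h)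
    (hi2 : orderOf i = 2) (hj2 : orderOf j = 2) (hmove : j • (pInf : Pt) ≠ pInf) :
    ∃ p ∈ M, p * i * p⁻¹ = j := by
  obtain ⟨hii, hi1⟩ := orderOf_two_iff.1 hi2
  obtain ⟨hjj, -⟩ := orderOf_two_iff.1 hj2
  have hinv : i * (i * j) * i⁻¹ = (i * j)⁻¹ := invert_pair hii hjj
  have hpow : ∀ r : ℕ, i * (i * j) ^ r * i⁻¹ = ((i * j) ^ r)⁻¹ := fun r => by
    rw [← conj_pow, hinv, inv_pow]
  rcases Nat.even_or_odd' (orderOf (i * j)) with ⟨r, hr | hr⟩
  · exfalso
    have hpos := orderOf_pos (i * j)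
    set z := (i * j) ^ r with hz
    have hz2 : z * z = 1 := by rw [hz, ← pow_add, ← two_mul, ← hr, pow_orderOf_eq_one]
    have hz1 : z ≠ 1 := by
      intro e
      have := Nat.le_of_dvd (by omega) (orderOf_dvd_of_pow_eq_one e)
      omega
    have hiz : i * z = z * i := by
      have := hpow r
      rw [← hz, inv_eq_of_mul_eq_one_right hz2, mul_inv_eq_iff_eq_mul] at this
      exact this
    have hzT : z ∈ tGroup h := centralizer_tS h hiT hi1 hiz
    have hc : Commute z (i * j) := (Commute.refl (i * j)).pow_left r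
    have hjz : z * j = j * z := by
      calc z * j = i * (i * z) * j := by rw [← mul_assoc i i, hii, one_mul]
        _ = i * (z * (i * j)) := by rw [hiz]; group
        _ = i * (i * j * z) := by rw [hc.eq]
        _ = i * i * (j * z) := by group
        _ = j * z := by rw [hii, one_mul]
    exact hmove (fix_pInf_of_mem_tGroup h (centralizer_tS h hzT hz1 hjz))
  · refine ⟨(i * j) ^ r, pow_mem (mul_mem hi hj) r, ?_⟩
    have h1 := hpow r
    have hsq : (i * j) ^ r * (i * j) ^ r = (i * j)⁻¹ := by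
      refine eq_inv_of_mul_eq_one_left ?_
      rw [← pow_add, ← pow_succ, ← two_mul, ← hr, pow_orderOf_eq_one]
    calc (i * j) ^ r * i * ((i * j) ^ r)⁻¹ = (i * j) ^ r * i * (i * (i * j) ^ r * i⁻¹) := by rw [h1]
      _ = (i * j) ^ r * (i * i) * (i * j) ^ r * i⁻¹ := by group
      _ = (i * j)⁻¹ * i⁻¹ := by rw [hii, mul_one, hsq]
      _ = j := by rw [← _root_.mul_inv_rev, ← mul_assoc, hii, one_mul,
                    inv_eq_of_mul_eq_one_right hjj]

namespace Adapted

variable {h} {M : Subgroup (Cfsg.Sz F m)} (S : Adapted h M)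
include S

theorem exists_moved : ∃ g ∈ M, g • (pInf : Pt) ≠ pInf := by
  by_contra hcon
  push Not at hcon
  refine S.nsolv ?_
  have hle : M ≤ borel F m := fun g hg => MulAction.mem_stabilizer_iff.2 (hcon g hg)
  have := borel_isSolvable h
  exact solvable_of_solvable_injective (Subgroup.inclusion_injective hle)

theorem tS_mem_of_mul {a b : F} {j : Fˣ} (hg : tS h a b * dS h j ∈ M) : tS h a b ∈ M := by
  have := mul_mem hg (inv_mem (S.split a b j hg))
  rwa [mul_inv_cancel_right] at this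

theorem exists_nu {b b' : F} (hb : b ≠ 0) (hb' : b' ≠ 0) (hm : tS h 0 b ∈ M) (hm' : tS h 0 b' ∈ M) :
    ∃ j : Fˣ, dS h j ∈ M ∧ b' = (j : F) * sig m (j : F) * b := by
  obtain ⟨g, hg, hmove⟩ := S.exists_moved
  set i' := g * tS h 0 b * g⁻¹ with hi'
  have hi'M : i' ∈ M := mul_mem (mul_mem hg hm) (inv_mem hg)
  have hi'2 : orderOf i' = 2 := by
    rw [hi', show g * tS h 0 b * g⁻¹ = MulAut.conj g (tS h 0 b) by simp, MulEquiv.orderOf_eq,
      orderOf_tS_zero h hb]
  have hi'move : i' • (pInf : Pt) ≠ pInf := by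
    intro e
    rw [hi', mul_smul, mul_smul, ← eq_inv_smul_iff] at e
    have h1 := tS_fixed h (tS_mem_tGroup h 0 b) (fun e1 => hb ((tS_eq_one h).1 e1).2)
      (smul_ovoid (g⁻¹).2 pInf_mem) e
    exact hmove (inv_smul_eq_iff.1 h1).symm
  obtain ⟨p, hp, hpi⟩ := conj_of_moved h hm hi'M (tS_mem_tGroup h 0 b) (orderOf_tS_zero h hb)
    hi'2 hi'move
  obtain ⟨p', hp', hpi'⟩ := conj_of_moved h hm' hi'M (tS_mem_tGroup h 0 b') (orderOf_tS_zero h hb')
    hi'2 hi'move
  have hy : (p'⁻¹ * p) * tS h 0 b * (p'⁻¹ * p)⁻¹ = tS h 0 b' := by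
    calc (p'⁻¹ * p) * tS h 0 b * (p'⁻¹ * p)⁻¹ = p'⁻¹ * (p * tS h 0 b * p⁻¹) * p' := by group
      _ = p'⁻¹ * (p' * tS h 0 b' * p'⁻¹) * p' := by rw [hpi, ← hpi']
      _ = _ := by group
  have hyB : p'⁻¹ * p ∈ borel F m :=
    (conj_mem_tGroup_iff_borel h (tS_mem_tGroup h 0 b) (fun e => hb ((tS_eq_one h).1 e).2)).1
      (hy ▸ tS_mem_tGroup h 0 b')
  obtain ⟨a, c, j, hj⟩ := exists_tS_dS h (MulAction.mem_stabilizer_iff.1 hyB)
  have hmem : tS h a c * dS h j ∈ M := hj ▸ mul_mem (inv_mem hp') hp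
  refine ⟨j, S.split a c j hmem, ?_⟩
  rw [hj, show tS h a c * dS h j * tS h 0 b * (tS h a c * dS h j)⁻¹ =
    tS h a c * (dS h j * tS h 0 b * (dS h j)⁻¹) * (tS h a c)⁻¹ by group, dS_conj, mul_zero,
    tS_central, mul_inv_cancel_right] at hy
  exact ((tS_injective h hy).2).symm

set_option maxHeartbeats 800000 in
/-- The torus part, the central translations and the subfield. -/
theorem exists_degree : ∃ e : ℕ, 1 ≤ e ∧ e ∣ 2 * m + 1 ∧
    (∀ j : Fˣ, dS h j ∈ M ↔ (j : F) ^ 2 ^ e = j) ∧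
    Nat.card (M.comap (dHom h)) + 1 = 2 ^ e ∧
    Nat.card {z : F // z ^ 2 ^ e = z} = 2 ^ e ∧
    (∀ b z : F, tS h 0 b ∈ M → z ^ 2 ^ e = z → tS h 0 (z * b) ∈ M) ∧
    (∀ b b' : F, b ≠ 0 → tS h 0 b ∈ M → tS h 0 b' ∈ M → ∃ z, z ^ 2 ^ e = z ∧ b' = z * b) := by
  classical
  obtain ⟨b₀, hb₀, hb₀M⟩ := S.inv
  set Cf := M.comap (dHom h) with hCf
  let ν : Cf → F := fun j => ((j : Fˣ) : F) * sig m ((j : Fˣ) : F)
  have hν0 : ∀ j, ν j ≠ 0 := fun j =>
    mul_ne_zero (Units.ne_zero _) fun e => Units.ne_zero _ (sig_eq_zero.1 e)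
  have hνinj : Function.Injective ν := fun i j e => Subtype.ext (nu_injective h e)
  have hconj : ∀ (j : Fˣ) (b : F), dS h j ∈ M → tS h 0 b ∈ M →
      tS h 0 ((j : F) * sig m (j : F) * b) ∈ M := fun j b hj hb => by
    have := mul_mem (mul_mem hj hb) (inv_mem hj)
    rwa [dS_conj, mul_zero] at this
  have hmem : ∀ z : F, tS h 0 (z * b₀) ∈ M ↔ z = 0 ∨ z ∈ Set.range ν := by
    intro z
    constructor
    · intro hz
      by_cases hz0 : z = 0
      · exact Or.inl hz0
      obtain ⟨j, hj, he⟩ := S.exists_nu hb₀ (mul_ne_zero hz0 hb₀) hb₀M hz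
      exact Or.inr ⟨⟨j, hj⟩, (mul_right_cancel₀ hb₀ he).symm⟩
    · rintro (rfl | ⟨j, rfl⟩)
      · rw [zero_mul, tS_zero]; exact one_mem _
      · exact hconj _ _ j.2 hb₀M
  let K : Subfield F :=
    { carrier := {z | tS h 0 (z * b₀) ∈ M}
      mul_mem' := fun {a b} ha hb => by
        rw [Set.mem_setOf_eq, hmem] at *
        rcases ha with rfl | ⟨i, rfl⟩
        · simp
        rcases hb with rfl | ⟨j, rfl⟩
        · simp
        exact Or.inr ⟨i * j, nu_mul _ _⟩
      one_mem' := by simpa using hb₀M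
      add_mem' := fun {a b} ha hb => by
        show tS h 0 ((a + b) * b₀) ∈ M
        rw [add_mul, ← tS_zero_mul]
        exact mul_mem ha hb
      zero_mem' := by simp [tS_zero]
      neg_mem' := fun {a} ha => by rwa [h.neg_eq]
      inv_mem' := fun a ha => by
        rw [Set.mem_setOf_eq, hmem] at *
        rcases ha with rfl | ⟨i, rfl⟩
        · simp
        refine Or.inr ⟨i⁻¹, ?_⟩
        simp only [ν, Subgroup.coe_inv, Units.val_inv_eq_inv_val, sig_inv, mul_inv] }
  have hKset : (K : Set F) = insert 0 (Set.range ν) := Set.ext fun z => hmem z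
  have hKcard : Nat.card K = Nat.card Cf + 1 := by
    show Nat.card (K : Set F) = _
    rw [Nat.card_coe_set_eq, hKset, Set.ncard_insert_of_notMem (by rintro ⟨j, hj⟩; exact hν0 j hj)
      (Set.toFinite _), Set.ncard_range_of_injective hνinj]
  have hpow : Nat.card F = Nat.card K ^ Module.finrank K F := Module.natCard_eq_pow_finrank
  have hd : 0 < Module.finrank K F := Module.finrank_pos
  rw [Nat.card_eq_fintype_card, h.card] at hpow
  obtain ⟨e, -, he⟩ := (Nat.dvd_prime_pow Nat.prime_two).1 (hpow ▸ dvd_pow_self (Nat.card K) hd.ne')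
  have he1 : 1 ≤ e := by
    rcases Nat.eq_zero_or_pos e with h0 | h0
    · rw [h0, pow_zero, hKcard] at he
      have := Nat.card_pos (α := Cf)
      omega
    · exact h0
  rw [he, ← pow_mul] at hpow
  have hdvd : e ∣ 2 * m + 1 := Dvd.intro _ (Nat.pow_right_injective le_rfl hpow).symm
  have hCcard : Nat.card Cf + 1 = 2 ^ e := hKcard ▸ he
  set c := Nat.card Cf with hc
  have hpowiff : ∀ j : Fˣ, (j : F) ^ 2 ^ e = j ↔ j ^ c = 1 := fun j => by
    rw [← hCcard, pow_succ]
    constructor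
    · intro hj
      exact Units.ext (by
        rw [Units.val_pow_eq_pow_val, Units.val_one]
        exact mul_right_cancel₀ j.ne_zero (hj.trans (one_mul _).symm))
    · intro hj
      rw [← Units.val_pow_eq_pow_val, hj, Units.val_one, one_mul]
  have hCmem : ∀ j : Fˣ, dS h j ∈ M ↔ (j : F) ^ 2 ^ e = j := by
    intro j
    rw [hpowiff]
    have h1 : ∀ i : Fˣ, i ∈ Cf → i ^ c = 1 := fun i hi => by
      have := congrArg Subtype.val (pow_card_eq_one' (x := (⟨i, hi⟩ : Cf)))
      rwa [Subgroup.coe_pow, Subgroup.coe_one] at this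
    refine ⟨fun hj => h1 j hj, fun hj => ?_⟩
    by_contra hcon
    have hsub : insert j (Finset.univ.filter (· ∈ Cf)) ⊆ Finset.univ.filter (fun i : Fˣ => i ^ c = 1) := by
      intro i hi
      simp only [Finset.mem_insert, Finset.mem_filter, Finset.mem_univ, true_and] at hi ⊢
      rcases hi with rfl | hi
      exacts [hj, h1 i hi]
    have h2 := (Finset.card_le_card hsub).trans (IsCyclic.card_pow_eq_one_le Nat.card_pos)
    rw [Finset.card_insert_of_notMem (by rw [Finset.mem_filter]; exact fun hh => hcon hh.2),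
      ← Fintype.card_subtype, ← Nat.card_eq_fintype_card] at h2
    omega
  have hKfix : ∀ z : F, z ∈ K ↔ z ^ 2 ^ e = z := by
    intro z
    by_cases hz : z = 0
    · subst hz
      simp [K, tS_zero, zero_pow (pow_ne_zero e two_ne_zero)]
    have hfin : ∀ w ∈ K, w ^ 2 ^ e = w := fun w hw => by
      rcases (hmem w).1 hw with rfl | ⟨j, rfl⟩
      · exact zero_pow (pow_ne_zero e two_ne_zero)
      · have hj := (hCmem _).1 j.2
        simp only [ν, mul_pow]
        rw [hj, show sig m ((j : Fˣ) : F) ^ 2 ^ e = sig m (((j : Fˣ) : F) ^ 2 ^ e) by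
          simp only [sig, ← pow_mul, mul_comm], hj]
    refine ⟨hfin z, fun hz' => ?_⟩
    -- a root of `X ^ 2 ^ e - X` outside `K` would be one too many
    have hu : (Units.mk0 z hz) ∈ Cf := (hCmem _).2 hz'
    by_contra hcon
    let g : Cf → Cf := fun j => ⟨Units.mk0 (ν j) (hν0 j),
      (hCmem _).2 (hfin _ ((hmem _).2 (Or.inr ⟨j, rfl⟩)))⟩
    have hg : Function.Injective g := fun i j e' =>
      hνinj (congrArg (fun w : Cf => ((w : Fˣ) : F)) e')
    obtain ⟨j, hj⟩ := Finite.injective_iff_surjective.1 hg ⟨_, hu⟩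
    exact hcon ((hmem z).2 (Or.inr ⟨j, congrArg (fun w : Cf => ((w : Fˣ) : F)) hj⟩))
  refine ⟨e, he1, hdvd, hCmem, hCcard, ?_, ?_, ?_⟩
  · exact (Nat.card_congr (Equiv.subtypeEquivRight fun z => (hKfix z))).symm.trans he
  · intro b z hb hz
    by_cases hb0 : b = 0
    · rw [hb0, mul_zero, tS_zero]; exact one_mem _
    have h1 : b / b₀ ∈ K := by
      show tS h 0 (b / b₀ * b₀) ∈ M
      rwa [div_mul_cancel₀ b hb₀]
    have h2 : tS h 0 (z * (b / b₀) * b₀) ∈ M := K.mul_mem ((hKfix z).2 hz) h1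
    rwa [mul_assoc, div_mul_cancel₀ b hb₀] at h2
  · intro b b' hb hm hm'
    have h1 : b / b₀ ∈ K := by show tS h 0 (b / b₀ * b₀) ∈ M; rwa [div_mul_cancel₀ b hb₀]
    have h2 : b' / b₀ ∈ K := by show tS h 0 (b' / b₀ * b₀) ∈ M; rwa [div_mul_cancel₀ b' hb₀]
    exact ⟨b' / b₀ / (b / b₀), (hKfix _).1 (K.div_mem h2 h1), by field_simp⟩

theorem tGroup_sylow : ∃ P : Sylow 2 M, (P : Subgroup M) = (tGroup h).subgroupOf M := by
  have := Fact.mk Nat.prime_two
  obtain ⟨b₀, hb₀, hb₀M⟩ := S.inv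
  have hQ : IsPGroup 2 ((tGroup h).subgroupOf M) :=
    (isPGroup_tGroup h).comap_subtype
  obtain ⟨P, hP⟩ := hQ.exists_le_sylow
  refine ⟨P, le_antisymm (fun x hx => ?_) hP⟩
  have hu : (⟨tS h 0 b₀, hb₀M⟩ : M) ∈ P := hP (Subgroup.mem_subgroupOf.2 (tS_mem_tGroup h 0 b₀))
  have hu1 : tS h 0 b₀ ≠ 1 := fun e => hb₀ ((tS_eq_one h).1 e).2
  have : Nontrivial P := ⟨⟨⟨_, hu⟩, 1, fun e => hu1 (congrArg (fun z : P => ((z : M) : G)) e)⟩⟩
  have hc := P.2.center_nontrivial
  obtain ⟨⟨z, hz⟩, hz1⟩ := exists_ne (1 : Subgroup.center P)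
  rw [Subgroup.mem_center_iff] at hz
  have hzT : ((z : M) : G) ∈ tGroup h :=
    centralizer_tS h (tS_mem_tGroup h 0 b₀) hu1 (congrArg (fun w : P => ((w : M) : G)) (hz ⟨_, hu⟩))
  refine Subgroup.mem_subgroupOf.2 (centralizer_tS h hzT ?_
    (congrArg (fun w : P => ((w : M) : G)) (hz ⟨x, hx⟩)).symm)
  exact fun e => hz1 (Subtype.ext (Subtype.ext (Subtype.ext e)))

theorem conj_into_tGroup {g : G} (hg : g ∈ M) (h2 : ∃ i, orderOf g = 2 ^ i) :
    ∃ x ∈ M, x⁻¹ * g * x ∈ tGroup h := by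
  have := Fact.mk Nat.prime_two
  obtain ⟨P, hP⟩ := S.tGroup_sylow
  obtain ⟨i, hi⟩ := h2
  obtain ⟨P', hP'⟩ := (show IsPGroup 2 (Subgroup.zpowers (⟨g, hg⟩ : M)) from IsPGroup.of_card (n := i)
    (by rw [Nat.card_zpowers, Subgroup.orderOf_mk, hi])).exists_le_sylow
  obtain ⟨y, hy⟩ := MulAction.exists_smul_eq M P P'
  have h1 : (⟨g, hg⟩ : M) ∈ ((y • P : Sylow 2 M) : Subgroup M) :=
    hy.symm ▸ hP' (Subgroup.mem_zpowers _)
  rw [Sylow.coe_subgroup_smul, Subgroup.mem_pointwise_smul_iff_inv_smul_mem, hP,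
    Subgroup.mem_subgroupOf] at h1
  exact ⟨y, y.2, by simpa [MulAut.smul_def, mul_assoc] using h1⟩

theorem exists_tS_span {e : ℕ} (hC : ∀ j : Fˣ, dS h j ∈ M ↔ (j : F) ^ 2 ^ e = j) {a₁ b₁ : F}
    (hab : tS h a₁ b₁ ∈ M) {z : F} (hz : z ^ 2 ^ e = z) : ∃ b, tS h (z * a₁) b ∈ M := by
  by_cases hz0 : z = 0
  · exact ⟨0, by rw [hz0, zero_mul, tS_zero]; exact one_mem _⟩
  have hj : dS h (Units.mk0 z hz0) ∈ M := (hC _).2 hz
  have := mul_mem (mul_mem hj hab) (inv_mem hj)
  rw [dS_conj, Units.val_mk0] at this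
  exact ⟨_, this⟩

/-- A subgroup with a trivial torus part is solvable. -/
theorem degree_ne_one {e : ℕ} (hC : Nat.card {z : F // z ^ 2 ^ e = z} = 2 ^ e)
    (hB : ∀ b b' : F, b ≠ 0 → tS h 0 b ∈ M → tS h 0 b' ∈ M → ∃ z, z ^ 2 ^ e = z ∧ b' = z * b) :
    e ≠ 1 := by
  rintro rfl
  have := Fact.mk Nat.prime_two
  apply S.nsolv
  refine isSolvable_of_cyclic_two h M fun P => ?_
  obtain ⟨P₀, hP₀⟩ := S.tGroup_sylow
  obtain ⟨b₀, hb₀, hb₀M⟩ := S.inv
  have hsq : ∀ a b : F, tS h a b ∈ M → sig m a * a = 0 ∨ sig m a * a = b₀ := by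
    intro a b hab
    have h1 : tS h 0 (sig m a * a) ∈ M := tS_sq h a b ▸ mul_mem hab hab
    obtain ⟨z, hz, he⟩ := hB b₀ _ hb₀ hb₀M h1
    rcases h.eq_zero_or_one_of_sq (by simpa using hz) with rfl | rfl
    · exact Or.inl (by rw [he, zero_mul])
    · exact Or.inr (by rw [he, one_mul])
  have hz0 : ∀ b : F, tS h 0 b ∈ M → b = 0 ∨ b = b₀ := by
    intro b hb
    obtain ⟨z, hz, he⟩ := hB b₀ b hb₀ hb₀M hb
    rcases h.eq_zero_or_one_of_sq (by simpa using hz) with rfl | rfl
    · exact Or.inl (by rw [he, zero_mul])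
    · exact Or.inr (by rw [he, one_mul])
  -- the translations in `M` are the powers of one element
  obtain ⟨u, hu, hgen⟩ : ∃ u ∈ M, u ∈ tGroup h ∧ ∀ g ∈ M, g ∈ tGroup h → g ∈ Subgroup.zpowers u := by
    by_cases hall : ∀ a b : F, tS h a b ∈ M → a = 0
    · refine ⟨_, hb₀M, tS_mem_tGroup h 0 b₀, ?_⟩
      rintro g hg ⟨a, b, rfl⟩
      obtain rfl := hall a b hg
      rcases hz0 b hg with rfl | rfl
      · rw [tS_zero]; exact one_mem _
      · exact Subgroup.mem_zpowers _
    · push Not at hall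
      obtain ⟨a₁, b₁, hab, ha₁⟩ := hall
      refine ⟨_, hab, tS_mem_tGroup h a₁ b₁, ?_⟩
      have hs1 : sig m a₁ * a₁ = b₀ := (hsq _ _ hab).resolve_left
        (mul_ne_zero (fun e => ha₁ (sig_eq_zero.1 e)) ha₁)
      have hu2 : tS h a₁ b₁ * tS h a₁ b₁ = tS h 0 b₀ := by rw [tS_sq, hs1]
      have h0mem : ∀ b, tS h 0 b ∈ M → tS h 0 b ∈ Subgroup.zpowers (tS h a₁ b₁) := by
        intro b hb
        rcases hz0 b hb with rfl | rfl
        · rw [tS_zero]; exact one_mem _
        · exact hu2 ▸ mul_mem (Subgroup.mem_zpowers _) (Subgroup.mem_zpowers _)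
      rintro g hg ⟨a, b, rfl⟩
      rcases hsq a b hg with e | e
      · obtain rfl : a = 0 := by
          rcases mul_eq_zero.1 e with e | e
          exacts [sig_eq_zero.1 e, e]
        exact h0mem b hg
      · obtain rfl : a = a₁ := by
          by_cases ha : a = 0
          · exact absurd (by rw [← e, ha, mul_zero]) hb₀
          have : Units.mk0 a ha = Units.mk0 a₁ ha₁ := nu_injective h (by
            simp only [Units.val_mk0]; linear_combination e - hs1)
          exact congrArg Units.val this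
        have hd : (tS h a b₁)⁻¹ * tS h a b = tS h 0 (b₁ + b) := by
          rw [tS_inv, tS_mul, h.add_self]
          congr 1
          linear_combination (sig m a * a) * h.two_zero
        have h1 := h0mem _ (hd ▸ mul_mem (inv_mem hab) hg)
        have := mul_mem (Subgroup.mem_zpowers (tS h a b₁)) h1
        rwa [← hd, mul_inv_cancel_left] at this
  have hcyc : IsCyclic (P₀ : Subgroup M) := by
    have huP : (⟨u, hu⟩ : M) ∈ (P₀ : Subgroup M) := by
      rw [hP₀, Subgroup.mem_subgroupOf]; exact hgen.1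
    refine ⟨⟨⟨_, huP⟩, fun g => ?_⟩⟩
    have hgT : ((g : M) : G) ∈ tGroup h :=
      Subgroup.mem_subgroupOf.1 (hP₀ ▸ g.2)
    obtain ⟨i, hi⟩ := hgen.2 _ (g : M).2 hgT
    exact ⟨i, Subtype.ext (Subtype.ext (by simpa using hi))⟩
  exact (P₀.equiv P).isCyclic.1 hcyc

set_option maxHeartbeats 1600000 in
/-- The main structure theorem. -/
theorem main : ∃ k : ℕ, 1 ≤ k ∧ 2 * k + 1 ∣ 2 * m + 1 ∧
    (∀ j : Fˣ, dS h j ∈ M ↔ (j : F) ^ 2 ^ (2 * k + 1) = j) ∧
    Nat.card M = (2 ^ (2 * k + 1)) ^ 2 * ((2 ^ (2 * k + 1)) ^ 2 + 1) * (2 ^ (2 * k + 1) - 1) ∧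
    (∀ b z : F, tS h 0 b ∈ M → z ^ 2 ^ (2 * k + 1) = z → tS h 0 (z * b) ∈ M) ∧
    (∀ b b' : F, b ≠ 0 → tS h 0 b ∈ M → tS h 0 b' ∈ M →
      ∃ z, z ^ 2 ^ (2 * k + 1) = z ∧ b' = z * b) ∧
    (∃ u ∈ M, u • (pInf : Pt) = pAff m (0 : F) 0 ∧ u • pAff m (0 : F) 0 = pInf) ∧
    (∀ g ∈ M, g • (pInf : Pt) ≠ pInf → ∃ a b : F, tS h a b ∈ M ∧ g • (pInf : Pt) = pAff m a b) := by
  classical
  obtain ⟨e, he1, hediv, hC, hc, hK, hscal, hB⟩ := S.exists_degree
  have hne1 := S.degree_ne_one hK hB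
  obtain ⟨k, rfl⟩ : Odd e := Odd.of_dvd_nat (odd_two_mul_add_one m) hediv
  have hk : 1 ≤ k := by omega
  set c := Nat.card (M.comap (dHom h)) with hcdef
  have hc7 : 7 ≤ c := by
    have h8 : 2 ^ 3 ≤ 2 ^ (2 * k + 1) := Nat.pow_le_pow_right (by norm_num) (by omega)
    rw [← hc] at h8
    norm_num at h8
    omega
  obtain ⟨b₀, hb₀, hb₀M⟩ := S.inv
  set Q : Subgroup M := (tGroup h).subgroupOf M with hQdef
  set C : Subgroup M := (torus h).subgroupOf M with hCdef
  have hcent : ∀ x : M, Subgroup.centralizer ({x} : Set M) =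
      (Subgroup.centralizer ({(x : G)} : Set G)).subgroupOf M := fun x => by
    ext y
    rw [Subgroup.mem_subgroupOf, Subgroup.mem_centralizer_singleton_iff,
      Subgroup.mem_centralizer_singleton_iff, Subtype.ext_iff]
    rfl
  have hnorm : Subgroup.normalizer (Q : Set M) = (borel F m).subgroupOf M := by
    ext y
    rw [Subgroup.mem_subgroupOf]
    constructor
    · intro hy
      have h1 := (Subgroup.mem_normalizer_iff.1 hy ⟨_, hb₀M⟩).1
        (Subgroup.mem_subgroupOf.2 (tS_mem_tGroup h 0 b₀))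
      exact mem_borel_of_conj h (tS_mem_tGroup h 0 b₀) (fun e' => hb₀ ((tS_eq_one h).1 e').2)
        (Subgroup.mem_subgroupOf.1 h1)
    · intro hy
      refine Subgroup.mem_normalizer_fintype fun z hz => ?_
      rw [SetLike.mem_coe, hQdef, Subgroup.mem_subgroupOf] at hz ⊢
      exact borel_normalizes h hy hz
  have hNcard : Nat.card (Subgroup.normalizer (Q : Set M)) = Nat.card Q * c := by
    rw [hnorm, hcdef, ← Nat.card_prod]
    let f : Q × M.comap (dHom h) → (borel F m).subgroupOf M := fun p =>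
      ⟨(p.1 : M) * ⟨dS h p.2, p.2.2⟩, Subgroup.mem_subgroupOf.2
        (mul_mem (tGroup_le_borel h (Subgroup.mem_subgroupOf.1 p.1.2)) (dS_mem_borel h _))⟩
    refine (Nat.card_congr (Equiv.ofBijective f ⟨?_, ?_⟩)).symm
    · rintro ⟨⟨q, hq⟩, j⟩ ⟨⟨q', hq'⟩, j'⟩ e'
      obtain ⟨a, b, hab⟩ := Subgroup.mem_subgroupOf.1 hq
      obtain ⟨a', b', hab'⟩ := Subgroup.mem_subgroupOf.1 hq'
      have e2 := congrArg (fun z : (borel F m).subgroupOf M => ((z : M) : G)) e'
      simp only [f, Subgroup.coe_mul, hab, hab'] at e2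
      obtain ⟨rfl, rfl, hj⟩ := tS_dS_injective h e2
      exact Prod.ext (Subtype.ext (Subtype.ext (hab.trans hab'.symm))) (Subtype.ext hj)
    · rintro ⟨⟨g, hgM⟩, hg⟩
      obtain ⟨a, b, j, rfl⟩ := exists_tS_dS h
        (MulAction.mem_stabilizer_iff.1 (Subgroup.mem_subgroupOf.1 hg))
      exact ⟨(⟨⟨_, S.tS_mem_of_mul hgM⟩, Subgroup.mem_subgroupOf.2 (tS_mem_tGroup h a b)⟩,
        ⟨j, S.split a b j hgM⟩), rfl⟩
  have hCcard : Nat.card C = c := by
    rw [hcdef]
    let f : M.comap (dHom h) → C := fun j =>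
      ⟨⟨dS h j, j.2⟩, Subgroup.mem_subgroupOf.2 ⟨j, rfl⟩⟩
    refine (Nat.card_congr (Equiv.ofBijective f ⟨?_, ?_⟩)).symm
    · intro i j e'
      exact Subtype.ext (dS_injective h (congrArg (fun z : C => ((z : M) : G)) e'))
    · rintro ⟨⟨g, hgM⟩, hg⟩
      obtain ⟨j, rfl⟩ := Subgroup.mem_subgroupOf.1 hg
      exact ⟨⟨j, hgM⟩, rfl⟩
  have hinv : Nat.card {x : M // x ∈ Q ∧ orderOf x = 2} = c := by
    have hcc : c = Nat.card {z : F // z ^ 2 ^ (2 * k + 1) = z ∧ z ≠ 0} := by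
      rw [hcdef]
      refine Nat.card_congr
        { toFun := fun j => ⟨((j : Fˣ) : F), (hC _).1 j.2, Units.ne_zero _⟩
          invFun := fun z => ⟨Units.mk0 z.1 z.2.2, (hC _).2 z.2.1⟩
          left_inv := fun j => Subtype.ext (Units.ext rfl)
          right_inv := fun z => rfl }
    rw [hcc]
    let f : {z : F // z ^ 2 ^ (2 * k + 1) = z ∧ z ≠ 0} → {x : M // x ∈ Q ∧ orderOf x = 2} := fun z =>
      ⟨⟨tS h 0 (z.1 * b₀), hscal _ _ hb₀M z.2.1⟩, Subgroup.mem_subgroupOf.2 (tS_mem_tGroup h _ _), by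
        rw [Subgroup.orderOf_mk]; exact orderOf_tS_zero h (mul_ne_zero z.2.2 hb₀)⟩
    refine (Nat.card_congr (Equiv.ofBijective f ⟨?_, ?_⟩)).symm
    · intro z z' e'
      exact Subtype.ext (mul_right_cancel₀ hb₀
        (tS_injective h (congrArg (fun x : {x : M // x ∈ Q ∧ orderOf x = 2} => ((x : M) : G)) e')).2)
    · rintro ⟨⟨g, hgM⟩, hgQ, hg2⟩
      rw [Subgroup.orderOf_mk] at hg2
      obtain ⟨b, hb, rfl⟩ := involution_tS h (Subgroup.mem_subgroupOf.1 hgQ) hg2
      obtain ⟨z, hz, rfl⟩ := hB b₀ b hb₀ hb₀M hgM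
      exact ⟨⟨z, hz, left_ne_zero_of_mul hb⟩, rfl⟩
  have hbig : (∃ a b : F, a ≠ 0 ∧ tS h a b ∈ M) → (c + 1) ^ 2 ≤ Nat.card Q := by
    rintro ⟨a₁, b₁, ha₁, hab⟩
    choose bz hbz using fun z : {z : F // z ^ 2 ^ (2 * k + 1) = z} =>
      S.exists_tS_span hC hab z.2
    let f : {z : F // z ^ 2 ^ (2 * k + 1) = z} × {z : F // z ^ 2 ^ (2 * k + 1) = z} → Q := fun p =>
      ⟨⟨tS h (p.1.1 * a₁) (bz p.1) * tS h 0 (p.2.1 * b₀),
        mul_mem (hbz p.1) (hscal _ _ hb₀M p.2.2)⟩, Subgroup.mem_subgroupOf.2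
        (mul_mem (tS_mem_tGroup h _ _) (tS_mem_tGroup h _ _))⟩
    have hf : Function.Injective f := by
      rintro ⟨x, y⟩ ⟨x', y'⟩ e'
      have e2 := congrArg (fun z : Q => ((z : M) : G)) e'
      simp only [f, tS_mul, add_zero, mul_zero] at e2
      obtain ⟨e3, e4⟩ := tS_injective h e2
      obtain rfl : x = x' := Subtype.ext (mul_right_cancel₀ ha₁ e3)
      exact Prod.ext rfl (Subtype.ext (mul_right_cancel₀ hb₀ (add_left_cancel e4)))
    have := Nat.card_le_card_of_injective f hf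
    rwa [Nat.card_prod, hK, ← hc, ← sq] at this
  have hsmall : (¬ ∃ a b : F, a ≠ 0 ∧ tS h a b ∈ M) → Nat.card Q = c + 1 := by
    intro hno
    push Not at hno
    rw [hc, ← hK]
    let f : {z : F // z ^ 2 ^ (2 * k + 1) = z} → Q := fun z =>
      ⟨⟨tS h 0 (z.1 * b₀), hscal _ _ hb₀M z.2⟩, Subgroup.mem_subgroupOf.2 (tS_mem_tGroup h _ _)⟩
    refine (Nat.card_congr (Equiv.ofBijective f ⟨?_, ?_⟩)).symm
    · intro z z' e'
      exact Subtype.ext (mul_right_cancel₀ hb₀
        (tS_injective h (congrArg (fun x : Q => ((x : M) : G)) e')).2)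
    · rintro ⟨⟨g, hgM⟩, hg⟩
      obtain ⟨a, b, rfl⟩ := Subgroup.mem_subgroupOf.1 hg
      obtain rfl : a = 0 := by
        by_contra ha
        exact hno a b ha hgM
      obtain ⟨z, hz, rfl⟩ := hB b₀ b hb₀ hb₀M hgM
      exact ⟨⟨z, hz⟩, rfl⟩
  obtain ⟨g₀, hg₀M, hg₀⟩ := S.exists_moved
  have setup : Setup Q C c := by
    refine
      { two := (isPGroup_tGroup h).comap_subtype
        ti := ?_
        normalizer_card := hNcard
        card_C := hCcard
        two_mem := ?_
        cent := ?_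
        cent_C := ?_
        weyl_C := ?_
        card_inv := hinv
        not_normal := ⟨⟨g₀, hg₀M⟩, by
          rw [hnorm, Subgroup.mem_subgroupOf]
          exact fun hh => hg₀ (MulAction.mem_stabilizer_iff.1 hh)⟩
        not_three := fun hh => not_three h (hh.trans (Subgroup.card_subgroup_dvd_card M))
        elem := ?_
        big := fun hne => hbig (by by_contra hno; exact hne (hsmall hno))
        seven_le := hc7
        pow_form := ⟨2 * k + 1, hc, odd_two_mul_add_one k⟩ }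
    · intro g x hx hgx hx1
      rw [hnorm, Subgroup.mem_subgroupOf]
      rw [hQdef, Subgroup.mem_subgroupOf] at hx hgx
      have hgB : (g : G)⁻¹ ∈ borel F m := by
        refine mem_borel_of_conj h hx (fun e' => hx1 (Subtype.ext e')) ?_
        rw [inv_inv]
        simpa using hgx
      exact inv_mem_iff.1 hgB
    · rintro ⟨g, hg⟩ h2
      rw [Subgroup.orderOf_mk] at h2
      obtain ⟨x, hx, hxT⟩ := S.conj_into_tGroup hg h2
      exact ⟨⟨x, hx⟩, Subgroup.mem_subgroupOf.2 hxT⟩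
    · intro g hg1 hgQ
      have hnot : ¬ ∃ i, orderOf (g : G) = 2 ^ i := fun h2 => by
        obtain ⟨x, hx, hxT⟩ := S.conj_into_tGroup g.2 h2
        exact hgQ ⟨⟨x, hx⟩, Subgroup.mem_subgroupOf.2 hxT⟩
      obtain ⟨A, hA, hAc, hAo, hAti⟩ := cent_of_not_two h hnot
      have hgA : (g : G) ∈ A := hA ▸ Subgroup.mem_centralizer_singleton_iff.2 rfl
      rw [hcent, hA]
      refine ⟨?_, ?_, ?_⟩
      · refine (odd_of_torusOrders h.one_le hAo).of_dvd_nat ?_
        rw [← Subgroup.card_map_of_injective M.subtype_injective, Subgroup.subgroupOf_map_subtype]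
        exact Subgroup.card_dvd_of_le inf_le_left
      · intro x hx hx1
        rw [hcent, hAti _ (Subgroup.mem_subgroupOf.1 hx) (fun e' => hx1 (Subtype.ext e'))]
      · set N' := Subgroup.normalizer ((A.subgroupOf M : Subgroup M) : Set M)
        have hle : N'.map M.subtype ≤ Subgroup.normalizer (A : Set G) := by
          rintro _ ⟨y, hy, rfl⟩
          have h1 := Subgroup.mem_subgroupOf.1
            ((Subgroup.mem_normalizer_iff.1 hy g).1 (Subgroup.mem_subgroupOf.2 hgA))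
          have h2 := hAti _ h1 (fun e' => hg1 (conj_eq_one_iff.1 (Subtype.ext e')))
          rw [Subgroup.mem_normalizer_iff_map_conj_eq, ← hA]
          exact (centralizer_map_conj _ _).trans (h2.trans hA.symm)
        rw [Subgroup.subgroupOf, Subgroup.relIndex_comap]
        change A.relIndex (N'.map M.subtype) ∣ 4
        refine dvd_trans ?_ (relIndex_normalizer h hAc hAo).1
        rw [← Subgroup.relIndex_subgroupOf hle]
        have : (A.subgroupOf (Subgroup.normalizer (A : Set G))).Normal := Subgroup.normal_in_normalizer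
        exact Subgroup.relIndex_dvd_index_of_normal _ _
    · intro x hx hx1
      rw [hcent, centralizer_mem_torus h (Subgroup.mem_subgroupOf.1 hx) (fun e' => hx1 (Subtype.ext e'))]
    · obtain ⟨x, hx, hx1⟩ : ∃ x ∈ C, x ≠ 1 := by
        by_contra hcon
        push Not at hcon
        rw [(Subgroup.eq_bot_iff_forall C).2 hcon, Subgroup.card_bot] at hCcard
        omega
      set N' := Subgroup.normalizer (C : Set M)
      have hle : N'.map M.subtype ≤ Subgroup.normalizer (torus h : Set G) := by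
        rintro _ ⟨y, hy, rfl⟩
        have h1 := Subgroup.mem_subgroupOf.1 ((Subgroup.mem_normalizer_iff.1 hy x).1 hx)
        have h2 := centralizer_mem_torus h h1 (fun e' => hx1 (conj_eq_one_iff.1 (Subtype.ext e')))
        have h3 := centralizer_mem_torus h (Subgroup.mem_subgroupOf.1 hx)
          (fun e' => hx1 (Subtype.ext e'))
        rw [Subgroup.mem_normalizer_iff_map_conj_eq, ← h3]
        exact (centralizer_map_conj _ _).trans (h2.trans h3.symm)
      rw [hCdef, Subgroup.subgroupOf, Subgroup.relIndex_comap]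
      change (torus h).relIndex (N'.map M.subtype) ∣ 2
      refine dvd_trans ?_ ((relIndex_normalizer h (isCyclic_torus h)
        (Or.inl (card_torus h))).2 (card_torus h))
      rw [← Subgroup.relIndex_subgroupOf hle]
      have : ((torus h).subgroupOf (Subgroup.normalizer (torus h : Set G))).Normal :=
        Subgroup.normal_in_normalizer
      exact Subgroup.relIndex_dvd_index_of_normal _ _
    · intro hQc g hg4
      obtain ⟨g, hg⟩ := g
      have h2 : ∃ i, orderOf g = 2 ^ i := by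
        have : orderOf g ∣ 2 ^ 2 :=
          orderOf_dvd_of_pow_eq_one (by simpa using congrArg Subtype.val hg4)
        obtain ⟨i, -, hi⟩ := (Nat.dvd_prime_pow Nat.prime_two).1 this
        exact ⟨i, hi⟩
      obtain ⟨x, hx, hxT⟩ := S.conj_into_tGroup hg h2
      obtain ⟨a, b, hab⟩ := hxT
      have ha : a = 0 := by
        by_contra ha
        have := hbig ⟨a, b, ha, hab ▸ mul_mem (mul_mem (inv_mem hx) hg) hx⟩
        rw [hQc] at this
        nlinarith
      subst ha
      apply Subtype.ext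
      show g ^ 2 = 1
      calc g ^ 2 = g * g := sq g
        _ = x * ((x⁻¹ * g * x) * (x⁻¹ * g * x)) * x⁻¹ := by group
        _ = 1 := by rw [hab, tS_sq, mul_zero, tS_zero]; group
  obtain ⟨hQs, hMs⟩ := setup.solve
  -- the orbit of infinity
  have hidx : (Subgroup.normalizer (Q : Set M)).index = 1 + Nat.card Q := by
    have h1 := (Subgroup.normalizer (Q : Set M)).index_mul_card
    rw [hNcard, hMs] at h1
    exact Nat.eq_of_mul_eq_mul_right (Nat.mul_pos Nat.card_pos (by omega)) h1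
  set O : Set (Projectivization F (Fin 4 → F)) := MulAction.orbit M (pInf : Pt)
  have hO : O.ncard = 1 + Nat.card Q := by
    rw [← MulAction.index_stabilizer M (pInf : Pt), ← hidx]
    congr 1
    rw [hnorm]
    ext y
    rw [MulAction.mem_stabilizer_iff, Subgroup.mem_subgroupOf, MulAction.mem_stabilizer_iff]
    rfl
  set O' : Set (Projectivization F (Fin 4 → F)) := O \ {(pInf : Pt)}
  have hO' : O'.ncard = Nat.card Q := by
    rw [Set.ncard_diff_singleton_of_mem (MulAction.mem_orbit_self _), hO]; omega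
  have hOmem : ∀ p ∈ O, p ∈ Cfsg.suzukiOvoid F m := by
    rintro _ ⟨g, rfl⟩
    exact smul_ovoid (g : G).2 pInf_mem
  have hclosed : ∀ g ∈ M, g • (pInf : Pt) = pInf → ∀ p ∈ O', g • p ∈ O' := by
    rintro g hgM hg p ⟨⟨x, rfl⟩, hp⟩
    refine ⟨⟨⟨g, hgM⟩ * x, mul_smul _ _ _⟩, fun e' => hp ?_⟩
    exact MulAction.injective g (e'.trans hg.symm)
  have hreg : ∀ p ∈ O', ∀ q ∈ O', ∃ a b : F, tS h a b ∈ M ∧ q = tS h a b • p := by
    intro p hp q hq
    have hsub : Set.range (fun x : Q => ((x : M) : G) • p) ⊆ O' := by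
      rintro _ ⟨x, rfl⟩
      exact hclosed _ (x : M).2 (fix_pInf_of_mem_tGroup h (Subgroup.mem_subgroupOf.1 x.2)) p hp
    have hinjQ : Function.Injective (fun x : Q => ((x : M) : G) • p) := by
      intro x y e'
      dsimp only at e'
      by_contra hne
      have h1 : (((y : M) : G)⁻¹ * ((x : M) : G)) • p = p := by rw [mul_smul, e', inv_smul_smul]
      refine hp.2 (tS_fixed h (mul_mem (inv_mem (Subgroup.mem_subgroupOf.1 y.2))
        (Subgroup.mem_subgroupOf.1 x.2)) ?_ (hOmem p hp.1) h1)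
      intro e2
      exact hne (Subtype.ext (Subtype.ext (inv_mul_eq_one.1 e2).symm))
    have heq : Set.range (fun x : Q => ((x : M) : G) • p) = O' :=
      Set.eq_of_subset_of_ncard_le hsub (by rw [hO', Set.ncard_range_of_injective hinjQ])
        (Set.toFinite _)
    obtain ⟨x, hx⟩ := heq.symm ▸ hq
    obtain ⟨a, b, hab⟩ := Subgroup.mem_subgroupOf.1 x.2
    exact ⟨a, b, hab ▸ (x : M).2, hx.symm.trans (congrArg (fun z : G => z • p) hab)⟩
  have hzero : pAff m (0 : F) 0 ∈ O' := by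
    have hc1 : 1 < c := by omega
    obtain ⟨p, hp, hpc⟩ := Nat.exists_prime_and_dvd hc1.ne'
    have := Fact.mk hp
    obtain ⟨j, hj⟩ : ∃ j : M.comap (dHom h), orderOf j = p := exists_prime_orderOf_dvd_card' p hpc
    have hjne : (j : Fˣ) ≠ 1 := fun e' => hp.one_lt.ne'
      (by rw [← hj, show j = 1 from Subtype.ext e', orderOf_one])
    let σ : Equiv.Perm O' :=
      { toFun := fun q => ⟨dS h j • q.1, hclosed _ j.2 (dS_smul_pInf h _) q.1 q.2⟩
        invFun := fun q => ⟨(dS h j)⁻¹ • q.1, hclosed _ (inv_mem j.2)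
          (inv_smul_eq_iff.2 (dS_smul_pInf h _).symm) q.1 q.2⟩
        left_inv := fun q => Subtype.ext (inv_smul_smul _ _)
        right_inv := fun q => Subtype.ext (smul_inv_smul _ _) }
    have hσpow : ∀ r : ℕ, ∀ q, ((σ ^ r) q : Projectivization F (Fin 4 → F)) = dS h j ^ r • q.1 := by
      intro r
      induction r with
      | zero => intro q; rw [pow_zero, pow_zero, one_smul]; rfl
      | succ r ih =>
        intro q
        rw [pow_succ', pow_succ', mul_smul, ← ih]; rfl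
    have hσ : σ ^ p ^ 1 = 1 := by
      refine Equiv.ext fun q => Subtype.ext ?_
      rw [hσpow, pow_one]
      have : dS h (j : Fˣ) ^ p = 1 := by
        have e' : (dHom h) (j : Fˣ) ^ p = (dHom h) (((j ^ p : M.comap (dHom h)) : Fˣ)) := by
          rw [Subgroup.coe_pow, map_pow]
        rw [← hj, pow_orderOf_eq_one, Subgroup.coe_one, map_one] at e'
        rw [← hj]
        exact e'
      rw [this, one_smul]; rfl
    haveI : Fintype O' := (Set.toFinite O').fintype
    obtain ⟨q, hq⟩ := Equiv.Perm.exists_fixed_point_of_prime (p := p) (n := 1) (by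
      rw [← Nat.card_eq_fintype_card, Nat.card_coe_set_eq, hO', hQs]
      intro hd
      have := Nat.dvd_sub ((Nat.Prime.dvd_of_dvd_pow hp) hd) hpc
      rw [Nat.add_sub_cancel_left] at this
      exact hp.one_lt.ne' (Nat.dvd_one.1 this)) hσ
    have hq' := congrArg Subtype.val hq
    rcases dS_fixed' h hjne (hOmem _ q.2.1) hq' with e' | e'
    · exact absurd e' q.2.2
    · exact e' ▸ q.2
  refine ⟨k, hk, hediv, hC, ?_, hscal, hB, ?_, ?_⟩
  · have hc2 : c = 2 ^ (2 * k + 1) - 1 := Nat.eq_sub_of_add_eq hc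
    rw [hMs, hQs, hc, hc2]; ring
  · obtain ⟨⟨g, hg⟩, hne0⟩ := hzero
    have hg' : (g : G) • (pInf : Pt) = pAff m (0 : F) 0 := hg
    have hmem : ((g : G)⁻¹ • (pInf : Pt)) ∈ O' := by
      refine ⟨⟨g⁻¹, rfl⟩, fun e' => hne0 ?_⟩
      rw [Set.mem_singleton_iff, inv_smul_eq_iff, hg'] at e'
      exact e'.symm
    obtain ⟨a, b, habM, hab⟩ := hreg _ ⟨⟨g, hg⟩, hne0⟩ _ hmem
    refine ⟨(g : G) * tS h a b, mul_mem g.2 habM, ?_, ?_⟩
    · rw [mul_smul, tS_smul_pInf, hg']
    · rw [mul_smul, ← hab, smul_inv_smul]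
  · intro g hgM hg
    obtain ⟨a, b, habM, hab⟩ := hreg _ hzero _ ⟨⟨⟨g, hgM⟩, rfl⟩, hg⟩
    exact ⟨a, b, habM, hab.trans (tS_smul_p0 h a b)⟩

end Adapted

end CfsgLib.SuzukiSub
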