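import Mathlib
import Cfsg.Prelude.Def_LieExceptional
import Cfsg.Agent.Lib.Suzuki.Summary

/-!
The subfield subgroups of the Suzuki groups.
-/

set_option autoImplicit false

namespace CfsgLib.SuzukiSub

open CfsgLib.Suzuki Matrix
open scoped Pointwise

variable {F : Type*} [Field F] [Fintype F] {m : ℕ}

local notation "SL4" => SpecialLinearGroup (Fin 4) F
local notation "Pt" => Projectivization F (Fin 4 → F)

section Bruhat

variable (h : SzHyp F m)
include h

theorem exists_bruhat (g : Cfsg.Sz F m) :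
    (∃ a b j, g = tS h a b * dS h j) ∨ ∃ a b c d j, g = tS h a b * wS h * (tS h c d * dS h j) := by
  rcases mem_ovoid.1 (smul_ovoid g.2 (pInf_mem (F := F) (m := m))) with e | ⟨a, b, e⟩
  · exact Or.inl (exists_tS_dS h e)
  · right
    obtain ⟨c, d, j, hj⟩ := exists_tS_dS h (g := (tS h a b * wS h)⁻¹ * g) (by
      rw [mul_smul, inv_smul_eq_iff, mul_smul, wS_smul_pInf, tS_smul_p0]
      exact e)
    exact ⟨a, b, c, d, j, by rw [← hj]; group⟩

/-- The subgroup of the points over the subfield with `2 ^ e` elements. -/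
def subfieldGroup (e : ℕ) : Subgroup (Cfsg.Sz F m) :=
  Subgroup.closure {g | (∃ a b : F, a ^ 2 ^ e = a ∧ b ^ 2 ^ e = b ∧ g = tS h a b) ∨
    (∃ j : Fˣ, (j : F) ^ 2 ^ e = j ∧ g = dS h j) ∨ g = wS h}

theorem subfieldGroup_le {e : ℕ} {M : Subgroup (Cfsg.Sz F m)}
    (ht : ∀ a b : F, a ^ 2 ^ e = a → b ^ 2 ^ e = b → tS h a b ∈ M)
    (hd : ∀ j : Fˣ, (j : F) ^ 2 ^ e = j → dS h j ∈ M) (hw : wS h ∈ M) :
    subfieldGroup h e ≤ M := by
  refine (Subgroup.closure_le M).2 ?_
  rintro g (⟨a, b, ha, hb, rfl⟩ | ⟨j, hj, rfl⟩ | rfl)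
  exacts [ht a b ha hb, hd j hj, hw]

end Bruhat

section Embed

variable {K : Type*} [Field K] [Fintype K] {k : ℕ}

theorem exists_ringHom (h : SzHyp F m) (hK : SzHyp K k) (hdiv : 2 * k + 1 ∣ 2 * m + 1) :
    Nonempty (K →+* F) := by
  have := h.charTwo
  have := hK.charTwo
  have := Fact.mk Nat.prime_two
  letI : Algebra (ZMod 2) K := ZMod.algebra K 2
  letI : Algebra (ZMod 2) F := ZMod.algebra F 2
  have e1 : Module.finrank (ZMod 2) K = 2 * k + 1 := by
    have := Module.natCard_eq_pow_finrank (K := ZMod 2) (V := K)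
    rw [Nat.card_zmod, Nat.card_eq_fintype_card, hK.card] at this
    exact (Nat.pow_right_injective le_rfl this).symm
  have e2 : Module.finrank (ZMod 2) F = 2 * m + 1 := by
    have := Module.natCard_eq_pow_finrank (K := ZMod 2) (V := F)
    rw [Nat.card_zmod, Nat.card_eq_fintype_card, h.card] at this
    exact (Nat.pow_right_injective le_rfl this).symm
  obtain ⟨f⟩ := FiniteField.nonempty_algHom_of_finrank_dvd (F := ZMod 2) (K := K) (L := F)
    (by rw [e1, e2]; exact hdiv)
  exact ⟨f.toRingHom⟩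

theorem map_pow_eq (hK : SzHyp K k) (hdiv : 2 * k + 1 ∣ 2 * m + 1) (f : K →+* F) (x : K) :
    f (x ^ 2 ^ k) = f x ^ 2 ^ m := by
  obtain ⟨l, hl⟩ := hdiv
  obtain ⟨i, rfl⟩ : Odd l := (Nat.odd_mul.1 (hl ▸ odd_two_mul_add_one m)).2
  have hm : m = k + (2 * k + 1) * i := by
    have : 2 * m + 1 = 2 * (k + (2 * k + 1) * i) + 1 := by rw [hl]; ring
    omega
  rw [← map_pow f x (2 ^ m), hm, Nat.add_comm k, pow_add, pow_mul, pow_mul]
  rw [← hK.card, FiniteField.pow_card_pow]

variable (h : SzHyp F m) (hK : SzHyp K k)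
include h hK

theorem map_rho (hdiv : 2 * k + 1 ∣ 2 * m + 1) (f : K →+* F) (j : Kˣ) :
    Units.map (f : K →* F) (rho k j) = rho m (Units.map (f : K →* F) j) := by
  apply Units.ext
  simpa [rho] using map_pow_eq hK hdiv f (j : K)

theorem map_sig (hdiv : 2 * k + 1 ∣ 2 * m + 1) (f : K →+* F) (x : K) :
    f (sig k x) = sig m (f x) := by
  rw [sig, sig, pow_succ, pow_succ, pow_mul, pow_mul, map_pow, map_pow_eq hK hdiv]

theorem exists_iso_subfieldGroup (hdiv : 2 * k + 1 ∣ 2 * m + 1) :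
    Nonempty (Cfsg.Sz K k ≃* subfieldGroup h (2 * k + 1)) := by
  classical
  obtain ⟨f⟩ := exists_ringHom h hK hdiv
  have hs := map_sig h hK hdiv f
  have hr := map_rho h hK hdiv f
  let φ : Cfsg.Sz K k →* SL4 := (SpecialLinearGroup.map f).comp (Cfsg.Sz K k).subtype
  have hφ : ∀ (g : Cfsg.Sz K k) i j, (φ g : Matrix (Fin 4) (Fin 4) F) i j =
      f (((g : SpecialLinearGroup (Fin 4) K) : Matrix (Fin 4) (Fin 4) K) i j) := fun _ _ _ => rfl
  have ht : ∀ a b, φ (tS hK a b) = (tS h (f a) (f b) : SL4) := fun a b => by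
    apply sl_ext
    intro i j
    rw [hφ]
    fin_cases i <;> fin_cases j <;> simp [tS, tMat, hs, ovf]
  have hd : ∀ j, φ (dS hK j) = (dS h (Units.map (f : K →* F) j) : SL4) := fun j => by
    apply sl_ext
    intro i l
    have e1 : f ((rho k j : Kˣ) : K) = ((rho m (Units.map (f : K →* F) j) : Fˣ) : F) :=
      congrArg Units.val (hr j)
    rw [hφ]
    fin_cases i <;> fin_cases l <;> simp [dS, dMat, ← e1]
  have hw : φ (wS hK) = (wS h : SL4) := by
    apply sl_ext
    intro i j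
    rw [hφ]
    fin_cases i <;> fin_cases j <;> simp [wS, wMat]
  have hmem : ∀ g, φ g ∈ Cfsg.Sz F m := by
    intro g
    rcases exists_bruhat hK g with ⟨a, b, j, rfl⟩ | ⟨a, b, c, d, j, rfl⟩
    · simp only [map_mul, ht, hd]
      exact mul_mem (SetLike.coe_mem _) (SetLike.coe_mem _)
    · simp only [map_mul, ht, hd, hw]
      exact mul_mem (mul_mem (SetLike.coe_mem _) (SetLike.coe_mem _))
        (mul_mem (SetLike.coe_mem _) (SetLike.coe_mem _))
  let ψ : Cfsg.Sz K k →* Cfsg.Sz F m := φ.codRestrict (Cfsg.Sz F m) hmem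
  have hψt : ∀ a b, ψ (tS hK a b) = tS h (f a) (f b) := fun a b => Subtype.ext (ht a b)
  have hψd : ∀ j, ψ (dS hK j) = dS h (Units.map (f : K →* F) j) := fun j => Subtype.ext (hd j)
  have hψw : ψ (wS hK) = wS h := Subtype.ext hw
  have hinj : Function.Injective ψ := by
    intro g g' e
    have e' : φ g = φ g' := congrArg Subtype.val e
    apply Subtype.ext
    apply sl_ext
    intro i j
    have := congrArg (fun z : SL4 => (z : Matrix (Fin 4) (Fin 4) F) i j) e'
    exact f.injective ((hφ g i j).symm.trans (this.trans (hφ g' i j)))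
  have hfK : ∀ x : K, f x ^ 2 ^ (2 * k + 1) = f x := fun x => by
    rw [← map_pow, ← hK.card, FiniteField.pow_card]
  have hsurj : ∀ a : F, a ^ 2 ^ (2 * k + 1) = a → ∃ x, f x = a := by
    intro a ha
    by_contra hcon
    push Not at hcon
    have hp : (Polynomial.X ^ 2 ^ (2 * k + 1) - Polynomial.X : Polynomial F) ≠ 0 :=
      FiniteField.X_pow_card_sub_X_ne_zero F (Nat.one_lt_two_pow (by omega))
    have hsub : insert a (Finset.univ.image f) ⊆
        (Polynomial.X ^ 2 ^ (2 * k + 1) - Polynomial.X : Polynomial F).roots.toFinset := by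
      intro y hy
      rw [Multiset.mem_toFinset, Polynomial.mem_roots hp]
      simp only [Finset.mem_insert, Finset.mem_image, Finset.mem_univ, true_and] at hy
      rcases hy with rfl | ⟨x, rfl⟩
      · simp [ha]
      · simp [hfK]
    have h1 := (Finset.card_le_card hsub).trans
      ((Multiset.toFinset_card_le _).trans (Polynomial.card_roots' _))
    rw [Finset.card_insert_of_notMem (by simpa using hcon),
      Finset.card_image_of_injective _ f.injective, Finset.card_univ, hK.card,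
      FiniteField.X_pow_card_sub_X_natDegree_eq F (Nat.one_lt_two_pow (by omega))] at h1
    omega
  have hrange : ψ.range = subfieldGroup h (2 * k + 1) := by
    refine le_antisymm ?_ (subfieldGroup_le h ?_ ?_ ⟨wS hK, hψw⟩)
    · rintro _ ⟨g, rfl⟩
      have htm : ∀ a b, ψ (tS hK a b) ∈ subfieldGroup h (2 * k + 1) := fun a b =>
        Subgroup.subset_closure (Or.inl ⟨_, _, hfK a, hfK b, hψt a b⟩)
      have hdm : ∀ j, ψ (dS hK j) ∈ subfieldGroup h (2 * k + 1) := fun j =>
        Subgroup.subset_closure (Or.inr (Or.inl ⟨_, hfK (j : K), hψd j⟩))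
      have hwm : ψ (wS hK) ∈ subfieldGroup h (2 * k + 1) :=
        Subgroup.subset_closure (Or.inr (Or.inr hψw))
      rcases exists_bruhat hK g with ⟨a, b, j, rfl⟩ | ⟨a, b, c, d, j, rfl⟩
      · rw [map_mul]; exact mul_mem (htm a b) (hdm j)
      · simp only [map_mul]; exact mul_mem (mul_mem (htm a b) hwm) (mul_mem (htm c d) (hdm j))
    · intro a b ha hb
      obtain ⟨x, rfl⟩ := hsurj a ha
      obtain ⟨y, rfl⟩ := hsurj b hb
      exact ⟨tS hK x y, hψt x y⟩
    · intro j hj
      obtain ⟨x, hx⟩ := hsurj _ hj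
      have hx0 : x ≠ 0 := fun e => j.ne_zero (by rw [← hx, e, map_zero])
      refine ⟨dS hK (Units.mk0 x hx0), (hψd _).trans (congrArg (dS h) (Units.ext ?_))⟩
      simpa using hx
  exact ⟨(MonoidHom.ofInjective hinj).trans (MulEquiv.subgroupCongr hrange)⟩

end Embed

theorem card_subfieldGroup (h : SzHyp F m) {k : ℕ} (hk : 1 ≤ k) (hdiv : 2 * k + 1 ∣ 2 * m + 1) :
    Nat.card (subfieldGroup h (2 * k + 1)) =
      (2 ^ (2 * k + 1)) ^ 2 * ((2 ^ (2 * k + 1)) ^ 2 + 1) * (2 ^ (2 * k + 1) - 1) := by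
  have := Fact.mk Nat.prime_two
  letI : Fintype (GaloisField 2 (2 * k + 1)) := Fintype.ofFinite _
  have hK : SzHyp (GaloisField 2 (2 * k + 1)) k :=
    ⟨hk, by rw [← Nat.card_eq_fintype_card, GaloisField.card 2 _ (by omega)]⟩
  obtain ⟨e⟩ := exists_iso_subfieldGroup h hK hdiv
  rw [← Nat.card_congr e.toEquiv, CfsgLib.Suzuki.card hK]

end CfsgLib.SuzukiSub
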