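import Mathlib
import Cfsg.Prelude.Def_LieExceptional
import Cfsg.Agent.Lib.SuzukiSub.Structure
import Cfsg.Agent.Lib.SuzukiSub.Subfield

/-!
Every non-solvable subgroup of `Cfsg.Sz F m` is conjugate to a subfield subgroup.
-/

set_option autoImplicit false

namespace CfsgLib.SuzukiSub

open CfsgLib.Suzuki Matrix
open scoped Pointwise

variable {F : Type*} [Field F] [Fintype F] {m : ℕ}

local notation "Pt" => Projectivization F (Fin 4 → F)
set_option quotPrecheck false in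
local notation "G" => ↥(Cfsg.Sz F m)

theorem map_conj_map_conj {M : Type*} [Group M] (H : Subgroup M) (x y : M) :
    (H.map (MulAut.conj x).toMonoidHom).map (MulAut.conj y).toMonoidHom =
      H.map (MulAut.conj (y * x)).toMonoidHom := by
  rw [Subgroup.map_map]; congr 1; ext z; simp [mul_assoc]

theorem isSolvable_map_conj {M : Type*} [Group M] (H : Subgroup M) (x : M) :
    Group.IsSolvable (H.map (MulAut.conj x).toMonoidHom) ↔ Group.IsSolvable H := by
  constructor <;> intro hs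
  · exact solvable_of_solvable_injective (f := (H.equivMapOfInjective (MulAut.conj x).toMonoidHom (MulAut.conj x).injective).toMonoidHom)
      (MulEquiv.injective _)
  · exact solvable_of_solvable_injective (f := (H.equivMapOfInjective (MulAut.conj x).toMonoidHom (MulAut.conj x).injective).symm.toMonoidHom)
      (MulEquiv.injective _)

variable (h : SzHyp F m)
include h

theorem dS_comm (i j : Fˣ) : dS h i * dS h j = dS h j * dS h i := by
  rw [dS_mul, dS_mul, mul_comm]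

theorem dS_tS (a b : F) (j : Fˣ) :
    dS h j * tS h a b = tS h ((j : F) * a) (j * sig m (j : F) * b) * dS h j := by
  rw [← dS_conj, inv_mul_cancel_right]

theorem mul_form (a b a' b' : F) (i j : Fˣ) :
    ∃ c d, tS h a b * dS h i * (tS h a' b' * dS h j) = tS h c d * dS h (i * j) := by
  refine ⟨a + (i : F) * a', b + i * sig m (i : F) * b' + sig m a * ((i : F) * a'), ?_⟩
  calc tS h a b * dS h i * (tS h a' b' * dS h j)
      = tS h a b * (dS h i * tS h a' b') * dS h j := by group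
    _ = tS h a b * tS h ((i : F) * a') (i * sig m (i : F) * b') * (dS h i * dS h j) := by
        rw [dS_tS]; group
    _ = _ := by rw [tS_mul, dS_mul]

theorem tS_conj_form (c d a b : F) (j : Fˣ) :
    ∃ a' b', tS h c d * (tS h a b * dS h j) * (tS h c d)⁻¹ = tS h a' b' * dS h j := by
  refine ⟨c + a + (j : F) * c,
    d + b + sig m c * a + j * sig m (j : F) * (d + sig m c * c) + sig m (c + a) * ((j : F) * c), ?_⟩
  calc tS h c d * (tS h a b * dS h j) * (tS h c d)⁻¹
      = tS h c d * tS h a b * (dS h j * tS h c (d + sig m c * c)) := by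
        rw [tS_inv]; group
    _ = _ := by rw [dS_tS, ← mul_assoc, tS_mul, tS_mul]

theorem exists_involution {M : Subgroup G} (hns : ¬ Group.IsSolvable M) :
    ∃ i ∈ M, orderOf i = 2 := by
  have := Fact.mk Nat.prime_two
  by_contra hcon
  refine hns (isSolvable_of_cyclic_two h M fun P => ?_)
  rcases subsingleton_or_nontrivial P with h1 | h1
  · exact isCyclic_of_subsingleton
  exfalso
  have hd : 2 ∣ Nat.card P := by
    obtain ⟨k, hk⟩ := IsPGroup.iff_card.1 P.2
    rcases k with _ | k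
    · rw [pow_zero] at hk
      exact absurd hk Finite.one_lt_card.ne'
    · rw [hk]; exact dvd_pow_self 2 k.succ_ne_zero
  obtain ⟨i, hi⟩ := exists_prime_orderOf_dvd_card' 2 hd
  exact hcon ⟨((i : M) : G), (i : M).2, by rw [Subgroup.orderOf_coe, Subgroup.orderOf_coe, hi]⟩

/-- A non-solvable subgroup can be conjugated into adapted position. -/
theorem exists_adapted {M : Subgroup G} (hns : ¬ Group.IsSolvable M) :
    ∃ x : G, Adapted h (M.map (MulAut.conj x).toMonoidHom) := by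
  obtain ⟨i, hiM, hi2⟩ := exists_involution h hns
  obtain ⟨x, hx⟩ := exists_conj_mem_tGroup h (g := i) ⟨1, by rw [hi2, pow_one]⟩
  obtain ⟨b, hb, hib⟩ := involution_tS h hx (by
    rw [show x⁻¹ * i * x = MulAut.conj x⁻¹ i by simp, MulEquiv.orderOf_eq, hi2])
  set M₁ := M.map (MulAut.conj x⁻¹).toMonoidHom with hM₁
  have hns₁ : ¬ Group.IsSolvable M₁ := fun hs => hns ((isSolvable_map_conj M x⁻¹).1 hs)
  have hbM : tS h 0 b ∈ M₁ := by
    rw [hM₁, mem_map_conj, ← hib, inv_inv]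
    rwa [show x * (x⁻¹ * i * x) * x⁻¹ = i by group]
  let J : Subgroup Fˣ :=
    { carrier := {j | ∃ a c : F, tS h a c * dS h j ∈ M₁}
      mul_mem' := by
        rintro i j ⟨a, c, h1⟩ ⟨a', c', h2⟩
        obtain ⟨a'', c'', e⟩ := mul_form h a c a' c' i j
        exact ⟨a'', c'', e ▸ mul_mem h1 h2⟩
      one_mem' := ⟨0, 0, by rw [tS_zero, dS_one, mul_one]; exact one_mem _⟩
      inv_mem' := by
        rintro j ⟨a, c, h1⟩
        refine ⟨((j⁻¹ : Fˣ) : F) * a, ((j⁻¹ : Fˣ) : F) * sig m ((j⁻¹ : Fˣ) : F) * (c + sig m a * a), ?_⟩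
        have h2 := inv_mem h1
        rwa [_root_.mul_inv_rev, dS_inv, tS_inv, dS_tS] at h2 }
  obtain ⟨j₀, hj₀⟩ := IsCyclic.exists_generator (α := J)
  by_cases hj1 : (j₀ : Fˣ) = 1
  · refine ⟨x⁻¹, hns₁, ⟨b, hb, hbM⟩, fun a c j hj => ?_⟩
    obtain ⟨r, hr⟩ := hj₀ ⟨j, a, c, hj⟩
    have : j = (j₀ : Fˣ) ^ r := by simpa using (congrArg Subtype.val hr).symm
    rw [this, hj1, _root_.one_zpow, dS_one]; exact one_mem _
  obtain ⟨a, c, hg⟩ := j₀.2
  set g := tS h a c * dS h (j₀ : Fˣ) with hgdef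
  have hgfix : g • (pInf : Pt) = pInf := by rw [hgdef, mul_smul, dS_smul_pInf, tS_smul_pInf]
  -- the second fixed point
  obtain ⟨u, v, huv⟩ : ∃ u v : F, g • pAff m u v = pAff m u v := by
    rcases borel_conj h hgfix with hT | ⟨y, k, -, hy⟩
    · exfalso
      obtain ⟨a', c', e⟩ := hT
      have e' : tS h a' c' * dS h 1 = tS h a c * dS h (j₀ : Fˣ) := by rw [dS_one, mul_one, ← e]
      exact hj1 (tS_dS_injective h e').2.2.symm
    · have h1 : g • (y • (pInf : Pt)) = y • (pInf : Pt) := by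
        rw [hy, mul_smul, inv_smul_smul, mul_smul, dS_smul_pInf]
      have h2 : g • (y • pAff m (0 : F) 0) = y • pAff m (0 : F) 0 := by
        rw [hy, mul_smul, inv_smul_smul, mul_smul, dS_smul_p0]
      rcases mem_ovoid.1 (smul_ovoid y.2 (pInf_mem (F := F) (m := m))) with e | ⟨u, v, e⟩
      · obtain ⟨u, v, e'⟩ := smul_pAff_ne h e 0 0
        exact ⟨u, v, e' ▸ h2⟩
      · exact ⟨u, v, e ▸ h1⟩
  set t := tS h u v with ht
  obtain ⟨a₁, c₁, he₁⟩ : ∃ a₁ c₁, t⁻¹ * g * t = tS h a₁ c₁ * dS h (j₀ : Fˣ) := by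
    obtain ⟨a₁, c₁, e⟩ := tS_conj_form h u (v + sig m u * u) a c (j₀ : Fˣ)
    refine ⟨a₁, c₁, ?_⟩
    rw [← e, ← tS_inv h u v, ← hgdef, ← ht, inv_inv]
  obtain ⟨j', hj'⟩ := exists_dS h (g := t⁻¹ * g * t)
    (by rw [mul_smul, mul_smul, ht, tS_smul_pInf, hgfix, inv_smul_eq_iff, tS_smul_pInf])
    (by rw [mul_smul, mul_smul, ht, tS_smul_p0, huv, inv_smul_eq_iff, tS_smul_p0])
  obtain ⟨-, -, hjeq⟩ := tS_dS_injective h (a := 0) (b := 0) (k := j') (a' := a₁) (b' := c₁) (k' := (j₀ : Fˣ))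
    (by rw [tS_zero, one_mul, ← hj', he₁])
  subst hjeq
  refine ⟨t⁻¹ * x⁻¹, ?_, ⟨b, hb, ?_⟩, fun a' c' j hj => ?_⟩
  · rw [← map_conj_map_conj]
    exact fun hs => hns₁ ((isSolvable_map_conj M₁ t⁻¹).1 hs)
  · rw [← map_conj_map_conj, mem_map_conj, inv_inv, ht, tS_central, mul_inv_cancel_right]
    exact hbM
  · rw [← map_conj_map_conj, mem_map_conj, inv_inv] at hj
    obtain ⟨a'', c'', e⟩ := tS_conj_form h u v a' c' j
    obtain ⟨r, hr⟩ := hj₀ ⟨j, a'', c'', e ▸ hj⟩
    have hjr : j = (j₀ : Fˣ) ^ r := by simpa using (congrArg Subtype.val hr).symm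
    have hd : dS h (j₀ : Fˣ) ∈ (M.map (MulAut.conj x⁻¹).toMonoidHom).map (MulAut.conj t⁻¹).toMonoidHom := by
      rw [mem_map_conj, inv_inv, ← hj']
      rwa [show t * (t⁻¹ * g * t) * t⁻¹ = g by group]
    rw [← map_conj_map_conj, hjr, show dS h ((j₀ : Fˣ) ^ r) = dS h (j₀ : Fˣ) ^ r from map_zpow (dHom h) _ r]
    exact zpow_mem hd r

/-- Every non-solvable subgroup is conjugate to a subfield subgroup. -/
theorem classify {M : Subgroup G} (hns : ¬ Group.IsSolvable M) :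
    ∃ k : ℕ, 1 ≤ k ∧ 2 * k + 1 ∣ 2 * m + 1 ∧
      ∃ x : G, M.map (MulAut.conj x).toMonoidHom = subfieldGroup h (2 * k + 1) := by
  obtain ⟨x, S⟩ := exists_adapted h hns
  set M₁ := M.map (MulAut.conj x).toMonoidHom with hM₁
  obtain ⟨-, -, -, -, -, -, -, ⟨u, huM, hu1, hu0⟩, -⟩ := S.main
  obtain ⟨j, hj⟩ := exists_dS h (g := wS h * u)
    (by rw [mul_smul, hu1, wS_smul_p0]) (by rw [mul_smul, hu0, wS_smul_pInf])
  have hu : u = wS h * dS h j := by rw [← hj, ← mul_assoc, wS_mul_self, one_mul]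
  obtain ⟨i, rfl⟩ := h.exists_sq_eq j
  set M₂ := M₁.map (MulAut.conj (dS h i)).toMonoidHom with hM₂
  have hwM : wS h ∈ M₂ := by
    rw [hM₂, mem_map_conj]
    have e : (dS h i)⁻¹ * wS h * dS h i = wS h * dS h (i * i) := by
      have e1 : (dS h i)⁻¹ = wS h * dS h i * wS h := by rw [wS_conj_dS, dS_inv]
      rw [e1, mul_assoc (wS h * dS h i), wS_mul_self, mul_one, mul_assoc, dS_mul]
    rw [e, ← hu]; exact huM
  have S₂ : Adapted h M₂ := by
    refine ⟨fun hs => S.nsolv ((isSolvable_map_conj M₁ _).1 hs), ?_, ?_⟩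
    · obtain ⟨b, hb, hbM⟩ := S.inv
      refine ⟨(i : F) * sig m (i : F) * b, mul_ne_zero
        (mul_ne_zero i.ne_zero fun e => i.ne_zero (sig_eq_zero.1 e)) hb, ?_⟩
      have := Subgroup.mem_map_of_mem (MulAut.conj (dS h i)).toMonoidHom hbM
      rwa [MulEquiv.coe_toMonoidHom, MulAut.conj_apply, dS_conj, mul_zero] at this
    · intro a c j hj
      rw [hM₂, mem_map_conj] at hj ⊢
      have e : (dS h i)⁻¹ * (tS h a c * dS h j) * dS h i =
          tS h (((i⁻¹ : Fˣ) : F) * a) (((i⁻¹ : Fˣ) : F) * sig m ((i⁻¹ : Fˣ) : F) * c) * dS h j := by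
        rw [← mul_assoc, dS_inv, dS_tS, mul_assoc, mul_assoc, dS_mul, dS_mul, mul_comm j i,
          inv_mul_cancel_left]
      rw [show (dS h i)⁻¹ * dS h j * dS h i = dS h j by
        rw [mul_assoc, dS_comm, inv_mul_cancel_left]]
      exact S.split _ _ _ (e ▸ hj)
  obtain ⟨k, hk, hdiv, hC, hcard, hscal, hB, -, horb⟩ := S₂.main
  refine ⟨k, hk, hdiv, dS h i * x, ?_⟩
  rw [← map_conj_map_conj, ← hM₁, ← hM₂]
  have key : ∀ b : F, b ≠ 0 → tS h 0 b ∈ M₂ →
      tS h (b / sig m b) 0 ∈ M₂ ∧ b ^ 2 ^ (2 * k + 1) = b := by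
    intro b hb hbM
    have hs : sig m b ≠ 0 := fun e => hb (sig_eq_zero.1 e)
    have himg : (wS h * tS h 0 b * wS h) • (pInf : Pt) = pAff m (b / sig m b) 0 := by
      rw [mul_smul, mul_smul, wS_smul_pInf, tS_smul_p0, wS_smul_pAff h (fun e => hb e.2)]
      simp [ovf, sig_zero]
    obtain ⟨a, c, hac, e⟩ := horb _ (mul_mem (mul_mem hwM hbM) hwM)
      (by rw [himg]; exact pAff_ne_pInf _ _)
    obtain ⟨rfl, rfl⟩ := pAff_inj (himg.symm.trans e)
    refine ⟨hac, ?_⟩
    have h1 := mul_mem hac hac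
    rw [tS_sq, show sig m (b / sig m b) * (b / sig m b) = b⁻¹ by
      rw [sig_div, h.sig_sig]; field_simp] at h1
    obtain ⟨z, hz, he⟩ := hB b b⁻¹ hb hbM h1
    apply h.pow_sq_inj
    have hb2 : b ^ 2 = z⁻¹ := eq_inv_of_mul_eq_one_left (by
      rw [sq, mul_comm, ← mul_assoc, ← he, inv_mul_cancel₀ hb])
    rw [← pow_mul, mul_comm, pow_mul, hb2, inv_pow, hz]
  obtain ⟨b, hb, hbM⟩ := S₂.inv
  have hone : tS h 0 1 ∈ M₂ := by
    have := hscal b b⁻¹ hbM (by rw [inv_pow, (key b hb hbM).2])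
    rwa [inv_mul_cancel₀ hb] at this
  have hone' : tS h 1 0 ∈ M₂ := by
    have := (key 1 one_ne_zero hone).1
    rwa [sig_one, div_one] at this
  refine (Subgroup.eq_of_le_of_card_ge (subfieldGroup_le h ?_ (fun j hj => (hC j).2 hj) hwM) ?_).symm
  · intro a c ha hc
    have h0 : tS h 0 c ∈ M₂ := by
      have := hscal 1 c hone hc
      rwa [mul_one] at this
    have h1 : tS h a 0 ∈ M₂ := by
      by_cases ha0 : a = 0
      · rw [ha0, tS_zero]; exact one_mem _
      have hd : dS h (Units.mk0 a ha0) ∈ M₂ := (hC _).2 ha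
      have := mul_mem (mul_mem hd hone') (inv_mem hd)
      rwa [dS_conj, Units.val_mk0, mul_one, mul_zero] at this
    have := mul_mem h1 h0
    rwa [tS_mul, add_zero, mul_zero, zero_add, add_zero] at this
  · rw [hcard, card_subfieldGroup h hk hdiv]

end CfsgLib.SuzukiSub
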