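import Mathlib
import Cfsg.Prelude.Def_LieExceptional
import Cfsg.Agent.Lib.SuzukiSub.Classify

/-!
Consequences of the classification of the subgroups of `Cfsg.Sz F m`.
-/

set_option autoImplicit false

namespace CfsgLib.SuzukiSub

open CfsgLib.Suzuki Matrix
open scoped Pointwise

variable {F : Type*} [Field F] [Fintype F] {m : ℕ}

theorem card_strictMono {k k' : ℕ} (e : (2 ^ (2 * k + 1)) ^ 2 * ((2 ^ (2 * k + 1)) ^ 2 + 1) * (2 ^ (2 * k + 1) - 1) =
    (2 ^ (2 * k' + 1)) ^ 2 * ((2 ^ (2 * k' + 1)) ^ 2 + 1) * (2 ^ (2 * k' + 1) - 1)) : k = k' := by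
  have key : ∀ a b : ℕ, a < b → (2 ^ (2 * a + 1)) ^ 2 * ((2 ^ (2 * a + 1)) ^ 2 + 1) * (2 ^ (2 * a + 1) - 1) <
      (2 ^ (2 * b + 1)) ^ 2 * ((2 ^ (2 * b + 1)) ^ 2 + 1) * (2 ^ (2 * b + 1) - 1) := by
    intro a b hab
    have h1 : 2 ^ (2 * a + 1) < 2 ^ (2 * b + 1) := Nat.pow_lt_pow_right (by norm_num) (by omega)
    have h2 : 2 ^ 1 ≤ 2 ^ (2 * a + 1) := Nat.pow_le_pow_right (by norm_num) (by omega)
    have h3 : (2 ^ (2 * a + 1)) ^ 2 < (2 ^ (2 * b + 1)) ^ 2 := Nat.pow_lt_pow_left h1 two_ne_zero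
    apply Nat.mul_lt_mul_of_lt_of_le (Nat.mul_lt_mul'' h3 (by omega)) (by omega) (by omega)
  rcases lt_trichotomy k k' with h1 | h1 | h1
  · exact absurd e (key _ _ h1).ne
  · exact h1
  · exact absurd e (key _ _ h1).ne'

variable (h : SzHyp F m)
include h

/-- A subgroup of the same order as `Sz(s)` which is not solvable is conjugate to the standard one. -/
theorem conj_subfieldGroup {M : Subgroup (Cfsg.Sz F m)} (hns : ¬ Group.IsSolvable M) {k : ℕ}
    (hcard : Nat.card M = (2 ^ (2 * k + 1)) ^ 2 * ((2 ^ (2 * k + 1)) ^ 2 + 1) * (2 ^ (2 * k + 1) - 1)) :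
    ∃ x : Cfsg.Sz F m, M.map (MulAut.conj x).toMonoidHom = subfieldGroup h (2 * k + 1) := by
  obtain ⟨k', hk', hdiv, x, hx⟩ := classify h hns
  have e : Nat.card M = Nat.card (subfieldGroup h (2 * k' + 1)) := by
    rw [← hx, Subgroup.card_map_of_injective (MulAut.conj x).injective]
  rw [card_subfieldGroup h hk' hdiv, hcard] at e
  obtain rfl := card_strictMono e
  exact ⟨x, hx⟩

theorem not_isSolvable : ¬ Group.IsSolvable (Cfsg.Sz F m) := by
  intro hs
  obtain ⟨n, hn⟩ := (Group.isSolvable_def _).1 hs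
  have hall : ∀ i, derivedSeries (Cfsg.Sz F m) i = ⊤ := by
    intro i
    induction i with
    | zero => exact derivedSeries_zero _
    | succ i ih => rw [derivedSeries_succ, ih]; exact commutator_eq_top h
  have := isSimpleGroup h
  exact top_ne_bot ((hall n).symm.trans hn)

/-- The subgroups, sorted into the maximal ones. -/
theorem classification (M : Subgroup (Cfsg.Sz F m)) (hM : M ≠ ⊤) :
    ((∃ P : Sylow 2 (Cfsg.Sz F m), M ≤ Subgroup.normalizer ((P : Subgroup (Cfsg.Sz F m)) : Set (Cfsg.Sz F m))) ∨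
      (∃ U : Subgroup (Cfsg.Sz F m), IsCyclic U ∧ Nat.card U ∈ torusOrders m ∧
        M ≤ Subgroup.normalizer (U : Set (Cfsg.Sz F m)))) ∨
    ∃ k, 1 ≤ k ∧ k < m ∧ 2 * k + 1 ∣ 2 * m + 1 ∧
      ∃ x : Cfsg.Sz F m, M.map (MulAut.conj x).toMonoidHom = subfieldGroup h (2 * k + 1) := by
  by_cases hs : Group.IsSolvable M
  · exact Or.inl (solvable_cases h M hs)
  · obtain ⟨k, hk, hdiv, x, hx⟩ := classify h hs
    refine Or.inr ⟨k, hk, ?_, hdiv, x, hx⟩
    have hle : 2 * k + 1 ≤ 2 * m + 1 := Nat.le_of_dvd (by omega) hdiv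
    refine lt_of_le_of_ne (by omega) fun hkm => hM ?_
    subst hkm
    apply Subgroup.eq_top_of_card_eq
    rw [← Subgroup.card_map_of_injective (K := M) (f := (MulAut.conj x).toMonoidHom) (MulAut.conj x).injective, hx,
      card_subfieldGroup h hk hdiv, CfsgLib.Suzuki.card h]

end CfsgLib.SuzukiSub
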