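import Mathlib
import Cfsg.Prelude.Def_LieExceptional
import Cfsg.Agent.Lib.SuzukiSub.Main

/-!
Solubilizers in `Cfsg.Sz F m` for `2m+1` prime.
-/

set_option autoImplicit false

namespace CfsgLib.SuzukiSub

open CfsgLib.Suzuki Matrix
open scoped Pointwise

variable {F : Type*} [Field F] [Fintype F] {m : ℕ}

local notation "Pt" => Projectivization F (Fin 4 → F)
set_option quotPrecheck false in
local notation "G" => ↥(Cfsg.Sz F m)

/-- The solubilizer of an element. -/
def solSet {M : Type*} [Group M] (x : M) : Set M :=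
  {y | Group.IsSolvable (Subgroup.closure ({x, y} : Set M))}

theorem solSet_map {M N : Type*} [Group M] [Group N] (e : M ≃* N) (x : M) :
    Nat.card (solSet (e x)) = Nat.card (solSet x) := by
  refine (Nat.card_congr (e.toEquiv.subtypeEquiv fun y => ?_)).symm
  show Group.IsSolvable (Subgroup.closure ({x, y} : Set M)) ↔
    Group.IsSolvable (Subgroup.closure ({e x, e y} : Set N))
  have he : (Subgroup.closure ({x, y} : Set M)).map e.toMonoidHom =
      Subgroup.closure ({e x, e y} : Set N) := by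
    rw [MonoidHom.map_closure, Set.image_pair]; rfl
  rw [← he]
  let f := (Subgroup.closure ({x, y} : Set M)).equivMapOfInjective e.toMonoidHom e.injective
  exact ⟨fun hs => solvable_of_solvable_injective (f := f.symm.toMonoidHom) f.symm.injective,
    fun hs => solvable_of_solvable_injective (f := f.toMonoidHom) f.injective⟩

theorem torusOrders_pair (hm : 1 ≤ m) :
    (2 ^ (2 * m + 1) + 2 ^ (m + 1) + 1) * (2 ^ (2 * m + 1) - 2 ^ (m + 1) + 1) =
      (2 ^ (2 * m + 1)) ^ 2 + 1 := by
  have hr : (2 ^ (m + 1)) * (2 ^ (m + 1)) = 2 * 2 ^ (2 * m + 1) := by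
    rw [← pow_add, ← pow_succ']; congr 1; omega
  have hle : 2 ^ (m + 1) ≤ 2 ^ (2 * m + 1) := Nat.pow_le_pow_right (by norm_num) (by omega)
  obtain ⟨q, hq⟩ : ∃ q, q = 2 ^ (2 * m + 1) := ⟨_, rfl⟩
  obtain ⟨r, hr'⟩ : ∃ r, r = 2 ^ (m + 1) := ⟨_, rfl⟩
  rw [← hq, ← hr'] at hr hle ⊢
  obtain ⟨d, rfl⟩ := Nat.exists_eq_add_of_le hle
  rw [Nat.add_sub_cancel_left]
  linarith [hr]

theorem one_lt_orders (hm : 1 ≤ m) {k : ℕ} (hk : k ∈ torusOrders m) : 1 < k := by
  have h5 : 2 ^ (m + 2) ≤ 2 ^ (2 * m + 1) := Nat.pow_le_pow_right (by norm_num) (by omega)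
  have h6 : 2 ^ 2 ≤ 2 ^ (m + 1) := Nat.pow_le_pow_right (by norm_num) (by omega)
  have h7 : 2 ^ (m + 2) = 2 ^ (m + 1) + 2 ^ (m + 1) := by ring
  simp only [torusOrders, Set.mem_insert_iff, Set.mem_singleton_iff] at hk
  omega

theorem coprime_orders (hm : 1 ≤ m) {k k' : ℕ} (hk : k ∈ torusOrders m) (hk' : k' ∈ torusOrders m)
    (hne : k ≠ k') : Nat.Coprime k k' := by
  have hpair := torusOrders_pair (m := m) hm
  have h0 := coprime_sq_add_one (n := 2 * m + 1) (by omega)
  have h1 : Nat.Coprime (2 ^ (2 * m + 1) + 2 ^ (m + 1) + 1) (2 ^ (2 * m + 1) - 1) :=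
    (h0.coprime_dvd_left (Dvd.intro _ hpair)).coprime_dvd_right (dvd_mul_left _ _)
  have h2 : Nat.Coprime (2 ^ (2 * m + 1) - 2 ^ (m + 1) + 1) (2 ^ (2 * m + 1) - 1) :=
    (h0.coprime_dvd_left (Dvd.intro_left _ hpair)).coprime_dvd_right (dvd_mul_left _ _)
  have h3 : Nat.Coprime (2 ^ (2 * m + 1) + 2 ^ (m + 1) + 1) (2 ^ (2 * m + 1) - 2 ^ (m + 1) + 1) := by
    refine Nat.coprime_of_dvd fun p hp hp1 hp2 => ?_
    have hodd := odd_of_torusOrders hm (Or.inr (Or.inl rfl) :
      (2 ^ (2 * m + 1) + 2 ^ (m + 1) + 1) ∈ torusOrders m)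
    have hle : 2 ^ (m + 1) ≤ 2 ^ (2 * m + 1) := Nat.pow_le_pow_right (by norm_num) (by omega)
    have hd := Nat.dvd_sub hp1 hp2
    rw [show 2 ^ (2 * m + 1) + 2 ^ (m + 1) + 1 - (2 ^ (2 * m + 1) - 2 ^ (m + 1) + 1) = 2 ^ (m + 2) by
      rw [pow_succ 2 (m + 1)]; omega] at hd
    obtain rfl := (Nat.prime_dvd_prime_iff_eq hp Nat.prime_two).1 (hp.dvd_of_dvd_pow hd)
    exact Nat.not_even_iff_odd.2 hodd (even_iff_two_dvd.2 hp1)
  rcases hk with rfl | rfl | rfl <;> rcases hk' with rfl | rfl | rfl <;>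
    first
      | exact absurd rfl hne
      | assumption
      | exact h1.symm
      | exact h2.symm
      | exact h3.symm

/-- The index of a torus in its normaliser. -/
def weylOrder (m k : ℕ) : ℕ := if k = 2 ^ (2 * m + 1) - 1 then 2 else 4

theorem weylOrder_cases (m k : ℕ) : weylOrder m k = 2 ∨ weylOrder m k = 4 := by
  unfold weylOrder; split_ifs
  exacts [Or.inl rfl, Or.inr rfl]

variable (h : SzHyp F m)
include h

theorem torus_centralizer {U : Subgroup G} (hU : IsCyclic U) (hc : Nat.card U ∈ torusOrders m)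
    {u : G} (hu : u ∈ U) (hu1 : u ≠ 1) : Subgroup.centralizer {u} = U := by
  by_cases h1 : Nat.card U = 2 ^ (2 * m + 1) - 1
  · obtain ⟨x, rfl⟩ := eq_conj_torus h hU h1
    exact centralizer_mem_conj_torus h x hu hu1
  · exact (eq_exc_torus h hU (by
      rcases hc with e | e | e
      · exact absurd e h1
      · exact Or.inl e
      · exact Or.inr e)).centralizer_eq h hu hu1

theorem card_torus_normalizer {U : Subgroup G} (hU : IsCyclic U) (hc : Nat.card U ∈ torusOrders m) :
    Nat.card (Subgroup.normalizer (U : Set G)) = weylOrder m (Nat.card U) * Nat.card U := by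
  unfold weylOrder
  by_cases h1 : Nat.card U = 2 ^ (2 * m + 1) - 1
  · rw [if_pos h1]
    obtain ⟨x, rfl⟩ := eq_conj_torus h hU h1
    rw [map_conj_normalizer, Subgroup.card_map_of_injective (MulAut.conj x).injective,
      card_normalizer_torus h, h1]
  · rw [if_neg h1]
    exact card_normalizer_exc h (eq_exc_torus h hU (by
      rcases hc with e | e | e
      · exact absurd e h1
      · exact Or.inl e
      · exact Or.inr e))

theorem pow_four_mem {U : Subgroup G} (hU : IsCyclic U) (hc : Nat.card U ∈ torusOrders m)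
    {y : G} (hy : y ∈ Subgroup.normalizer (U : Set G)) :
    y ^ weylOrder m (Nat.card U) ∈ U ∧ y ^ 4 ∈ U := by
  have hN : (U.subgroupOf (Subgroup.normalizer (U : Set G))).Normal := Subgroup.normal_in_normalizer
  have hidx : (U.subgroupOf (Subgroup.normalizer (U : Set G))).index = weylOrder m (Nat.card U) := by
    have := card_torus_normalizer h hU hc
    rw [card_normalizer_eq] at this
    exact Nat.eq_of_mul_eq_mul_right Nat.card_pos this
  have h1 := Subgroup.pow_index_mem (U.subgroupOf (Subgroup.normalizer (U : Set G))) ⟨y, hy⟩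
  rw [hidx, Subgroup.mem_subgroupOf] at h1
  refine ⟨h1, ?_⟩
  rcases weylOrder_cases m (Nat.card U) with e | e <;> rw [e] at h1
  · have e2 : y ^ 4 = (y ^ 2) ^ 2 := by rw [← pow_mul]
    exact e2 ▸ pow_mem h1 2
  · exact h1

theorem mem_of_odd {U : Subgroup G} (hU : IsCyclic U) (hc : Nat.card U ∈ torusOrders m)
    {y : G} (hy : y ∈ Subgroup.normalizer (U : Set G)) (hodd : Odd (orderOf y)) : y ∈ U := by
  obtain ⟨i, hi⟩ := exists_pow_eq_self_of_coprime (x := y) (n := 4)
    ((Nat.coprime_two_left.2 hodd).pow_left 2)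
  rw [← hi]
  exact pow_mem (pow_four_mem h hU hc hy).2 i

theorem pow_weyl_eq_one {U : Subgroup G} (hU : IsCyclic U) (hc : Nat.card U ∈ torusOrders m)
    {y : G} (hy : y ∈ Subgroup.normalizer (U : Set G)) (hyU : y ∉ U) :
    y ^ weylOrder m (Nat.card U) = 1 := by
  by_contra hne
  apply hyU
  rw [← torus_centralizer h hU hc (pow_four_mem h hU hc hy).1 hne,
    Subgroup.mem_centralizer_singleton_iff]
  exact (Commute.self_pow y _).eq

theorem inverts {U : Subgroup G} (hU : IsCyclic U) (hc : Nat.card U ∈ torusOrders m) {i : G}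
    (hi : orderOf i = 2) (hiN : i ∈ Subgroup.normalizer (U : Set G)) {a : G} (ha : a ∈ U) :
    i * a * i⁻¹ = a⁻¹ := by
  obtain ⟨hii, -⟩ := orderOf_two_iff.1 hi
  have hodd := odd_of_torusOrders h.one_le hc
  set b := i * a * i⁻¹ with hb
  have hbA : b ∈ U := (Subgroup.mem_normalizer_iff.1 hiN a).1 ha
  have hcomm : b * a = a * b :=
    letI : CommGroup U := IsCyclic.commGroup
    congrArg Subtype.val (mul_comm (⟨b, hbA⟩ : U) ⟨a, ha⟩)
  have hfix : i * (a * b) * i⁻¹ = a * b := by
    rw [hb, inv_eq_of_mul_eq_one_right hii] at hcomm ⊢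
    calc i * (a * (i * a * i)) * i = i * a * i * a * (i * i) := by group
      _ = a * (i * a * i) := by rw [hii, mul_one, hcomm]
  by_cases hab : a * b = 1
  · exact eq_inv_of_mul_eq_one_right hab
  exfalso
  have hmem : i ∈ Subgroup.centralizer ({a * b} : Set G) := by
    rw [Subgroup.mem_centralizer_singleton_iff]
    exact (mul_inv_eq_iff_eq_mul.1 hfix)
  rw [torus_centralizer h hU hc (mul_mem ha hbA) hab] at hmem
  exact orderOf_two_mem_of_odd hodd hi hmem

theorem exists_involution_normalizer {U : Subgroup G} (hU : IsCyclic U)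
    (hc : Nat.card U ∈ torusOrders m) :
    ∃ t ∈ Subgroup.normalizer (U : Set G), orderOf t = 2 := by
  have := Fact.mk Nat.prime_two
  have hd : 2 ∣ Nat.card (Subgroup.normalizer (U : Set G)) := by
    rw [card_torus_normalizer h hU hc]
    rcases weylOrder_cases m (Nat.card U) with e | e <;> rw [e]
    · exact dvd_mul_right _ _
    · exact Dvd.dvd.mul_right (by norm_num) _
  obtain ⟨t, ht⟩ := exists_prime_orderOf_dvd_card' 2 hd
  exact ⟨t, t.2, by rw [Subgroup.orderOf_coe, ht]⟩

/-- Involutions and elements of order four in a torus normaliser. -/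
theorem count_normalizer {U : Subgroup G} (hU : IsCyclic U) (hc : Nat.card U ∈ torusOrders m) :
    Nat.card {y : G // y ∈ Subgroup.normalizer (U : Set G) ∧ orderOf y = 2} = Nat.card U ∧
      Nat.card {y : G // y ∈ Subgroup.normalizer (U : Set G) ∧ orderOf y = 4} =
        (weylOrder m (Nat.card U) - 2) * Nat.card U := by
  classical
  set N := Subgroup.normalizer (U : Set G) with hN
  have hodd := odd_of_torusOrders h.one_le hc
  obtain ⟨t, htN, ht⟩ := exists_involution_normalizer h hU hc
  obtain ⟨htt, -⟩ := orderOf_two_iff.1 ht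
  have h2 : Nat.card {y : G // y ∈ N ∧ orderOf y = 2} = Nat.card U := by
    let f : U → {y : G // y ∈ N ∧ orderOf y = 2} := fun u => ⟨t * u, mul_mem htN (Subgroup.le_normalizer u.2), by
      rw [orderOf_two_iff]
      refine ⟨?_, fun e => orderOf_two_mem_of_odd hodd ht
        (eq_inv_of_mul_eq_one_left e ▸ inv_mem u.2)⟩
      have := inverts h hU hc ht htN u.2
      rw [inv_eq_of_mul_eq_one_right htt] at this
      calc t * (u : G) * (t * u) = t * u * t * u := by group
        _ = 1 := by rw [this, inv_mul_cancel]⟩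
    refine (Nat.card_congr (Equiv.ofBijective f ⟨?_, ?_⟩)).symm
    · intro u v e
      exact Subtype.ext (mul_left_cancel (congrArg Subtype.val e))
    · rintro ⟨y, hyN, hy⟩
      refine ⟨⟨t * y, ?_⟩, Subtype.ext (by show t * (t * y) = y; rw [← mul_assoc, htt, one_mul])⟩
      by_cases hbot : ∀ a ∈ U, a = 1
      · exfalso
        have h1 := one_lt_orders h.one_le hc
        rw [(Subgroup.eq_bot_iff_forall U).2 hbot, Subgroup.card_bot] at h1
        exact lt_irrefl 1 h1
      push Not at hbot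
      obtain ⟨a, ha, ha1⟩ := hbot
      rw [← torus_centralizer h hU hc ha ha1, Subgroup.mem_centralizer_singleton_iff]
      have h1 := inverts h hU hc ht htN (inv_mem ha)
      have h2 := inverts h hU hc hy hyN ha
      rw [inv_inv] at h1
      calc t * y * a = t * (y * a * y⁻¹) * t⁻¹ * (t * y) := by group
        _ = a * (t * y) := by rw [h2, h1]
  refine ⟨h2, ?_⟩
  -- the rest is the torus
  have hsplit : ∀ y ∈ N, y ∈ U ∨ orderOf y = 2 ∨ orderOf y = 4 := by
    intro y hy
    by_cases hyU : y ∈ U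
    · exact Or.inl hyU
    have h4 : y ^ 2 ^ 2 = 1 := by
      have := pow_weyl_eq_one h hU hc hy hyU
      rcases weylOrder_cases m (Nat.card U) with e | e <;> rw [e] at this
      · rw [pow_two, pow_mul, this, one_pow]
      · exact this
    obtain ⟨i, hi, hi'⟩ := (Nat.dvd_prime_pow Nat.prime_two).1 (orderOf_dvd_of_pow_eq_one h4)
    interval_cases i
    · have h1 : y = 1 := orderOf_eq_one_iff.1 (by simpa using hi')
      exact absurd (h1 ▸ one_mem U) hyU
    · exact Or.inr (Or.inl (by simpa using hi'))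
    · exact Or.inr (Or.inr (by simpa using hi'))
  have hoddU : ∀ y ∈ U, orderOf y ≠ 2 ∧ orderOf y ≠ 4 := by
    intro y hy
    have := Nat.not_even_iff_odd.2 (hodd.of_dvd_nat (U.orderOf_dvd_natCard hy))
    constructor <;> intro e <;> rw [e] at this <;> exact this (by decide)
  have hfin : ∀ P : G → Prop, Nat.card {y : G // P y} = (Set.toFinite {y | P y}).toFinset.card :=
    fun P => by rw [← Set.ncard_eq_toFinset_card, ← Nat.card_coe_set_eq]; rfl
  have hsum : Nat.card U + Nat.card {y : G // y ∈ N ∧ orderOf y = 2} +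
      Nat.card {y : G // y ∈ N ∧ orderOf y = 4} = Nat.card N := by
    rw [hfin (fun y => y ∈ U), hfin, hfin, hfin (fun y => y ∈ N), ← Finset.card_union_of_disjoint,
      ← Finset.card_union_of_disjoint]
    · congr 1
      ext y
      simp only [Finset.mem_union, Set.Finite.mem_toFinset, Set.mem_setOf_eq]
      constructor
      · rintro ((hy | hy) | hy)
        exacts [Subgroup.le_normalizer hy, hy.1, hy.1]
      · intro hy
        rcases hsplit y hy with e | e | e
        exacts [Or.inl (Or.inl e), Or.inl (Or.inr ⟨hy, e⟩), Or.inr ⟨hy, e⟩]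
    · simp only [Finset.disjoint_left, Finset.mem_union, Set.Finite.mem_toFinset, Set.mem_setOf_eq]
      rintro y (hy | hy) ⟨-, hy4⟩
      · exact (hoddU y hy).2 hy4
      · omega
    · simp only [Finset.disjoint_left, Set.Finite.mem_toFinset, Set.mem_setOf_eq]
      rintro y hy ⟨-, hy2⟩
      exact (hoddU y hy).1 hy2
  rw [h2, card_torus_normalizer h hU hc] at hsum
  rcases weylOrder_cases m (Nat.card U) with e | e <;> rw [e] at hsum ⊢ <;> omega

/-- Existence and conjugacy of the tori. -/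
theorem tori_class {k : ℕ} (hk : k ∈ torusOrders m) :
    ∃ U₀ : Subgroup G, IsCyclic U₀ ∧ Nat.card U₀ = k ∧
      ∀ U : Subgroup G, (IsCyclic U ∧ Nat.card U = k) ↔ U ∈ conjClass U₀ := by
  obtain ⟨U₀, hU₀, hc₀, hconj⟩ : ∃ U₀ : Subgroup G, IsCyclic U₀ ∧ Nat.card U₀ = k ∧
      ∀ U : Subgroup G, IsCyclic U → Nat.card U = k →
        ∃ x : G, U = U₀.map (MulAut.conj x).toMonoidHom := by
    by_cases h1 : k = 2 ^ (2 * m + 1) - 1
    · exact ⟨torus h, isCyclic_torus h, h1 ▸ card_torus h, fun U hU hc => eq_conj_torus h hU (hc.trans h1)⟩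
    · have h2 : k = 2 ^ (2 * m + 1) + 2 ^ (m + 1) + 1 ∨ k = 2 ^ (2 * m + 1) - 2 ^ (m + 1) + 1 := by
        rcases hk with e | e | e
        · exact absurd e h1
        · exact Or.inl e
        · exact Or.inr e
      obtain ⟨U₀, hU₀, hc₀, -, -⟩ := exceptional_cyclic h k (by simpa using h2)
      refine ⟨U₀, hU₀, hc₀, fun U hU hc => ?_⟩
      have hE₀ := eq_exc_torus h hU₀ (by rw [hc₀]; exact h2)
      have hE := eq_exc_torus h hU (by rw [hc]; exact h2)
      obtain ⟨p, hp, hpd⟩ := Nat.exists_prime_and_dvd (n := k) (by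
        have := hE₀.five_le h; omega)
      obtain ⟨x, hx⟩ := hE₀.conj_of_dvd h hE hp (by rw [hc₀]; exact hpd) (by rw [hc]; exact hpd)
      exact ⟨x, hx⟩
  refine ⟨U₀, hU₀, hc₀, fun U => ⟨fun ⟨hU, hc⟩ => ?_, fun hU => ?_⟩⟩
  · obtain ⟨x, hx⟩ := hconj U hU hc
    exact mem_conjClass.2 ⟨x, hx.symm⟩
  · obtain ⟨x, rfl⟩ := mem_conjClass.1 hU
    exact ⟨(U₀.equivMapOfInjective (MulAut.conj x).toMonoidHom (MulAut.conj x).injective).isCyclic.1 hU₀,
      (Subgroup.card_map_of_injective (MulAut.conj x).injective).trans hc₀⟩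

/-- The elements of order `d` are spread evenly over the points. -/
theorem card_orderOf (d : ℕ) (hd : d = 2 ∨ d = 4) :
    Nat.card {y : G // orderOf y = d} =
      ((2 ^ (2 * m + 1)) ^ 2 + 1) * Nat.card {y : G // y ∈ tGroup h ∧ orderOf y = d} := by
  classical
  choose g hg using fun p : Cfsg.suzukiOvoid F m => exists_smul_pInf h p.2
  have hc : Nat.card (Cfsg.suzukiOvoid F m) = (2 ^ (2 * m + 1)) ^ 2 + 1 := by
    rw [ovoid_card, h.card]
  rw [← hc, ← Nat.card_prod]
  let f : Cfsg.suzukiOvoid F m × {y : G // y ∈ tGroup h ∧ orderOf y = d} → {y : G // orderOf y = d} :=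
    fun z => ⟨g z.1 * z.2.1 * (g z.1)⁻¹, by
      rw [show g z.1 * z.2.1 * (g z.1)⁻¹ = MulAut.conj (g z.1) z.2.1 by simp, MulEquiv.orderOf_eq,
        z.2.2.2]⟩
  refine (Nat.card_congr (Equiv.ofBijective f ⟨?_, ?_⟩)).symm
  · rintro ⟨p, y, hy⟩ ⟨p', y', hy'⟩ e
    have e' : g p * y * (g p)⁻¹ = g p' * y' * (g p')⁻¹ := congrArg Subtype.val e
    have hy'1 : y' ≠ 1 := fun e1 => by
      rw [e1, orderOf_one] at hy'; rcases hd with rfl | rfl <;> simp at hy'
    have hfix : y' • ((g p')⁻¹ • (p : Pt)) = (g p')⁻¹ • (p : Pt) := by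
      have h1 : (g p * y * (g p)⁻¹) • (p : Pt) = p := by
        rw [mul_smul, mul_smul, ← hg p, inv_smul_smul, fix_pInf_of_mem_tGroup h hy.1]
      rw [e', mul_smul, mul_smul] at h1
      exact (eq_inv_smul_iff.2 h1)
    have h2 := tS_fixed h hy'.1 hy'1 (smul_ovoid ((g p')⁻¹).2 p.2) hfix
    have hpp : p = p' := Subtype.ext (by rw [← hg p', ← h2]; exact (smul_inv_smul _ _).symm)
    subst hpp
    exact Prod.ext rfl (Subtype.ext (mul_left_cancel (mul_right_cancel e')))
  · rintro ⟨y, hy⟩
    obtain ⟨x, hx⟩ := exists_conj_mem_tGroup h (g := y) (by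
      rcases hd with rfl | rfl
      · exact ⟨1, by rw [hy]; rfl⟩
      · exact ⟨2, by rw [hy]; rfl⟩)
    set p : Cfsg.suzukiOvoid F m := ⟨x • (pInf : Pt), smul_ovoid x.2 pInf_mem⟩ with hp
    have hb : (g p)⁻¹ * x ∈ borel F m := MulAction.mem_stabilizer_iff.2 (by
      rw [mul_smul, inv_smul_eq_iff, hg p])
    refine ⟨(p, ⟨(g p)⁻¹ * y * g p, ?_, ?_⟩), Subtype.ext ?_⟩
    · have := borel_normalizes h hb hx
      rwa [show (g p)⁻¹ * x * (x⁻¹ * y * x) * ((g p)⁻¹ * x)⁻¹ = (g p)⁻¹ * y * g p by group] at this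
    · rw [show (g p)⁻¹ * y * g p = MulAut.conj (g p)⁻¹ y by simp, MulEquiv.orderOf_eq, hy]
    · show g p * ((g p)⁻¹ * y * g p) * (g p)⁻¹ = y
      group

theorem card_tGroup_orderOf :
    Nat.card {y : G // y ∈ tGroup h ∧ orderOf y = 2} = 2 ^ (2 * m + 1) - 1 ∧
      Nat.card {y : G // y ∈ tGroup h ∧ orderOf y = 4} =
        2 ^ (2 * m + 1) * (2 ^ (2 * m + 1) - 1) := by
  have hF : Nat.card Fˣ = 2 ^ (2 * m + 1) - 1 := by
    rw [Nat.card_units, Nat.card_eq_fintype_card, h.card]
  have h4 : ∀ (a : Fˣ) (b : F), orderOf (tS h (a : F) b) = 4 := by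
    intro a b
    have := Fact.mk Nat.prime_two
    refine orderOf_eq_prime_pow (p := 2) (n := 1) ?_ ?_
    · rw [pow_one, sq, tS_sq, tS_eq_one]
      rintro ⟨-, e⟩
      exact (mul_ne_zero (fun e' => a.ne_zero (sig_eq_zero.1 e')) a.ne_zero) e
    · rw [show (2 : ℕ) ^ (1 + 1) = 2 * 2 from rfl, pow_mul, sq, sq, tS_sq, tS_sq, sig_zero,
        mul_zero, tS_zero]
  constructor
  · rw [← hF]
    let f : Fˣ → {y : G // y ∈ tGroup h ∧ orderOf y = 2} := fun b =>
      ⟨tS h 0 (b : F), tS_mem_tGroup h _ _, orderOf_tS_zero h b.ne_zero⟩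
    refine (Nat.card_congr (Equiv.ofBijective f ⟨?_, ?_⟩)).symm
    · intro b c e
      exact Units.ext (tS_injective h (congrArg Subtype.val e)).2
    · rintro ⟨y, hy, hy2⟩
      obtain ⟨b, hb, rfl⟩ := involution_tS h hy hy2
      exact ⟨Units.mk0 b hb, rfl⟩
  · rw [← hF, ← h.card, ← Nat.card_eq_fintype_card, ← Nat.card_prod]
    let f : F × Fˣ → {y : G // y ∈ tGroup h ∧ orderOf y = 4} := fun z =>
      ⟨tS h (z.2 : F) z.1, tS_mem_tGroup h _ _, h4 z.2 z.1⟩
    refine (Nat.card_congr (Equiv.ofBijective f ⟨?_, ?_⟩)).symm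
    · rintro ⟨b, a⟩ ⟨b', a'⟩ e
      obtain ⟨e1, e2⟩ := tS_injective h (congrArg Subtype.val e)
      exact Prod.ext e2 (Units.ext e1)
    · rintro ⟨y, ⟨a, b, rfl⟩, hy⟩
      have ha : a ≠ 0 := by
        rintro rfl
        by_cases hb : b = 0
        · rw [hb, tS_zero, orderOf_one] at hy; exact absurd hy (by norm_num)
        · rw [orderOf_tS_zero h hb] at hy; exact absurd hy (by norm_num)
      exact ⟨(b, Units.mk0 a ha), rfl⟩

theorem exists_nu_eq {z : F} (hz : z ≠ 0) : ∃ j : Fˣ, (j : F) * sig m (j : F) = z := by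
  let f : Fˣ → Fˣ := fun j => Units.mk0 ((j : F) * sig m (j : F))
    (mul_ne_zero j.ne_zero fun e => j.ne_zero (sig_eq_zero.1 e))
  have hf : Function.Injective f := fun i j e => nu_injective h (congrArg Units.val e)
  obtain ⟨j, hj⟩ := Finite.injective_iff_surjective.1 hf (Units.mk0 z hz)
  exact ⟨j, congrArg Units.val hj⟩

/-- Elements of order two, resp. four, are conjugate up to inversion. -/
theorem conj_or_inv {x y : G} (hx : x ∈ tGroup h) (hy : y ∈ tGroup h) (hd : orderOf x = orderOf y)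
    (h24 : orderOf x = 2 ∨ orderOf x = 4) :
    ∃ g : G, g * x * g⁻¹ = y ∨ g * x * g⁻¹ = y⁻¹ := by
  rcases h24 with h2 | h4
  · obtain ⟨b, hb, rfl⟩ := involution_tS h hx h2
    obtain ⟨c, hc, rfl⟩ := involution_tS h hy (hd ▸ h2)
    obtain ⟨j, hj⟩ := exists_nu_eq h (div_ne_zero hc hb)
    refine ⟨dS h j, Or.inl ?_⟩
    rw [dS_conj, mul_zero, hj, div_mul_cancel₀ c hb]
  · obtain ⟨a, b, rfl⟩ := hx
    obtain ⟨c, d, rfl⟩ := hy
    have hne : ∀ u v : F, orderOf (tS h u v) = 4 → u ≠ 0 := by
      rintro u v e rfl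
      by_cases hv : v = 0
      · rw [hv, tS_zero, orderOf_one] at e; exact absurd e (by norm_num)
      · rw [orderOf_tS_zero h hv] at e; exact absurd e (by norm_num)
    have ha := hne a b h4
    have hc := hne c d (hd ▸ h4)
    -- move to first coordinate `1`
    have hnorm : ∀ u v : F, u ≠ 0 → ∃ (g : G) (w : F), g * tS h u v * g⁻¹ = tS h 1 w := by
      intro u v hu
      refine ⟨dS h (Units.mk0 u⁻¹ (inv_ne_zero hu)), u⁻¹ * sig m u⁻¹ * v, ?_⟩
      rw [dS_conj, Units.val_mk0, inv_mul_cancel₀ hu]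
    obtain ⟨g₁, v, hv⟩ := hnorm a b ha
    obtain ⟨g₂, w, hw⟩ := hnorm c d hc
    classical
    let L : F → F := fun z => sig m z + z
    have hL : ∀ z, L z ≠ 1 := by
      intro z e
      have h5 : sig m z = z + 1 := by linear_combination e - z * h.two_zero
      have e5 : z ^ 2 = z := by
        rw [← h.sig_sig, h5, h.sig_add, sig_one, h5]
        linear_combination h.two_zero
      rcases h.eq_zero_or_one_of_sq e5 with rfl | rfl
      · simp [L, sig_zero] at e
      · simp only [L, sig_one, h.add_self] at e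
        exact zero_ne_one e
    have hconjL : ∀ z u : F, tS h z 0 * tS h 1 u * (tS h z 0)⁻¹ = tS h 1 (u + L z) := by
      intro z u
      rw [tS_inv, tS_mul, tS_mul]
      congr 1
      · linear_combination z * h.two_zero
      · simp only [L, h.sig_add, sig_one]
        linear_combination (sig m z * z) * h.two_zero
    -- `L` is two-to-one
    have hcov : ∀ u : F, (∃ z, L z = u) ∨ ∃ z, L z = u + 1 := by
      intro u
      by_contra hcon
      push Not at hcon
      have hLadd : ∀ z z', L (z + z') = L z + L z' := fun z z' => by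
        simp only [L, h.sig_add]; ring
      set R := Finset.univ.image L with hR
      have hfib : Fintype.card F ≤ 2 * R.card := by
        rw [← Finset.card_univ]
        refine Finset.card_le_mul_card_image _ 2 fun y hy => ?_
        obtain ⟨z₀, -, rfl⟩ := Finset.mem_image.1 hy
        refine (Finset.card_le_card (t := {z₀, z₀ + 1}) fun z hz => ?_).trans Finset.card_le_two
        simp only [Finset.mem_filter, Finset.mem_univ, true_and] at hz
        have h0 : sig m (z + z₀) + (z + z₀) = 0 := by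
          have := hLadd z z₀
          rw [hz, h.add_self] at this
          exact this
        rcases h.sig_fixed (h.eq_of_add_eq_zero h0) with e | e
        · simp [h.eq_of_add_eq_zero e]
        · have : z = z₀ + 1 := by linear_combination e - z₀ * h.two_zero
          simp [this]
      set R1 := R.image (· + 1) with hR1
      have hdis : Disjoint R R1 := by
        rw [Finset.disjoint_left]
        intro y hy hy1
        obtain ⟨z, -, rfl⟩ := Finset.mem_image.1 hy
        obtain ⟨y', hy', e⟩ := Finset.mem_image.1 hy1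
        obtain ⟨z', -, rfl⟩ := Finset.mem_image.1 hy'
        apply hL (z + z')
        rw [hLadd, ← e]
        linear_combination (L z') * h.two_zero
      have hu : u ∉ R ∪ R1 := by
        rw [Finset.mem_union]
        rintro (hu | hu)
        · obtain ⟨z, -, e⟩ := Finset.mem_image.1 hu
          exact hcon.1 z e
        · obtain ⟨y, hy, e⟩ := Finset.mem_image.1 hu
          obtain ⟨z, -, rfl⟩ := Finset.mem_image.1 hy
          exact hcon.2 z (by linear_combination e - h.two_zero)
      have := Finset.card_lt_univ_of_notMem hu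
      rw [Finset.card_union_of_disjoint hdis, hR1,
        Finset.card_image_of_injective _ (add_left_injective 1)] at this
      omega
    rcases hcov (v + w) with ⟨z, hz⟩ | ⟨z, hz⟩
    · refine ⟨g₂⁻¹ * tS h z 0 * g₁, Or.inl ?_⟩
      calc g₂⁻¹ * tS h z 0 * g₁ * tS h a b * (g₂⁻¹ * tS h z 0 * g₁)⁻¹
          = g₂⁻¹ * (tS h z 0 * (g₁ * tS h a b * g₁⁻¹) * (tS h z 0)⁻¹) * g₂ := by group
        _ = g₂⁻¹ * tS h 1 w * g₂ := by
          rw [hv, hconjL, hz, show v + (v + w) = w by linear_combination v * h.two_zero]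
        _ = _ := by rw [← hw]; group
    · refine ⟨g₂⁻¹ * tS h z 0 * g₁, Or.inr ?_⟩
      calc g₂⁻¹ * tS h z 0 * g₁ * tS h a b * (g₂⁻¹ * tS h z 0 * g₁)⁻¹
          = g₂⁻¹ * (tS h z 0 * (g₁ * tS h a b * g₁⁻¹) * (tS h z 0)⁻¹) * g₂ := by group
        _ = g₂⁻¹ * (tS h 1 w)⁻¹ * g₂ := by
          rw [hv, hconjL, hz, tS_inv, sig_one, one_mul,
            show v + (v + w + 1) = w + 1 by linear_combination v * h.two_zero]
        _ = _ := by rw [← hw]; group

/-- The number of tori of order `k` normalised by an element of order 2 or 4. -/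
theorem count_tori {x : G} (hx : x ∈ tGroup h) {d : ℕ} (hd : d = 2 ∨ d = 4) (hxd : orderOf x = d)
    {k : ℕ} (hk : k ∈ torusOrders m) :
    ((2 ^ (2 * m + 1)) ^ 2 + 1) * Nat.card {y : G // y ∈ tGroup h ∧ orderOf y = d} *
        Nat.card {U : Subgroup G // (IsCyclic U ∧ Nat.card U = k) ∧ x ∈ Subgroup.normalizer (U : Set G)} *
        (weylOrder m k * k) =
      Nat.card G * (if d = 2 then k else (weylOrder m k - 2) * k) := by
  classical
  have := Fintype.ofFinite G
  obtain ⟨U₀, hU₀, hc₀, hclass⟩ := tori_class h hk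
  set X := Finset.univ.filter (fun y : G => orderOf y = d) with hX
  let r : G → Subgroup G → Prop := fun y U => y ∈ Subgroup.normalizer (U : Set G)
  have hconst : ∀ y ∈ X, ((conjClass U₀).filter fun U => r y U).card =
      ((conjClass U₀).filter fun U => r x U).card := by
    intro y hy
    rw [hX, Finset.mem_filter] at hy
    obtain ⟨z, hz⟩ := exists_conj_mem_tGroup h (g := y) (by
      rcases hd with rfl | rfl
      · exact ⟨1, by rw [hy.2]; rfl⟩
      · exact ⟨2, by rw [hy.2]; rfl⟩)
    obtain ⟨g, hg⟩ := conj_or_inv h hz hx (by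
      rw [show z⁻¹ * y * z = MulAut.conj z⁻¹ y by simp, MulEquiv.orderOf_eq, hy.2, hxd]) (by
      rw [show z⁻¹ * y * z = MulAut.conj z⁻¹ y by simp, MulEquiv.orderOf_eq, hy.2]; exact hd)
    have key : ∀ U : Subgroup G, (g * z⁻¹) * y * (g * z⁻¹)⁻¹ ∈
        Subgroup.normalizer ((U.map (MulAut.conj (g * z⁻¹)).toMonoidHom : Subgroup G) : Set G) ↔
        r y U := by
      intro U
      rw [map_conj_normalizer, mem_map_conj]
      simp only [r]
      rw [show (g * z⁻¹)⁻¹ * ((g * z⁻¹) * y * (g * z⁻¹)⁻¹) * (g * z⁻¹) = y by group]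
    have hxy : ∀ V : Subgroup G, (g * z⁻¹) * y * (g * z⁻¹)⁻¹ ∈ Subgroup.normalizer (V : Set G) ↔
        r x V := by
      intro V
      rw [show (g * z⁻¹) * y * (g * z⁻¹)⁻¹ = g * (z⁻¹ * y * z) * g⁻¹ by group]
      rcases hg with e | e <;> rw [e]
      exact inv_mem_iff
    refine Finset.card_bij (fun U _ => U.map (MulAut.conj (g * z⁻¹)).toMonoidHom) ?_ ?_ ?_
    · intro U hU
      rw [Finset.mem_filter] at hU ⊢
      refine ⟨?_, (hxy _).1 ((key U).2 hU.2)⟩
      obtain ⟨w, rfl⟩ := mem_conjClass.1 hU.1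
      exact mem_conjClass.2 ⟨g * z⁻¹ * w, (map_conj_map_conj _ _ _).symm⟩
    · intro U _ V _ e
      exact Subgroup.map_injective (MulAut.conj (g * z⁻¹)).injective e
    · intro V hV
      rw [Finset.mem_filter] at hV
      refine ⟨V.map (MulAut.conj (g * z⁻¹)⁻¹).toMonoidHom, ?_, ?_⟩
      · have e : (V.map (MulAut.conj (g * z⁻¹)⁻¹).toMonoidHom).map
            (MulAut.conj (g * z⁻¹)).toMonoidHom = V := by
          rw [map_conj_map_conj, mul_inv_cancel, map_one]; exact Subgroup.map_id V
        rw [Finset.mem_filter]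
        refine ⟨?_, (key _).1 ((hxy _).2 (by rw [e]; exact hV.2))⟩
        obtain ⟨w, rfl⟩ := mem_conjClass.1 hV.1
        exact mem_conjClass.2 ⟨(g * z⁻¹)⁻¹ * w, (map_conj_map_conj _ _ _).symm⟩
      · rw [map_conj_map_conj, mul_inv_cancel, map_one]; exact Subgroup.map_id V
  have h1 := Finset.sum_card_bipartiteAbove_eq_sum_card_bipartiteBelow (s := X) (t := conjClass U₀) r
  have hN : ∀ U ∈ conjClass U₀, (X.bipartiteBelow r U).card =
      if d = 2 then k else (weylOrder m k - 2) * k := by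
    intro U hU
    obtain ⟨hUc, hUk⟩ := (hclass U).2 hU
    obtain ⟨h2, h4⟩ := count_normalizer h hUc (hUk ▸ hk)
    have e : (X.bipartiteBelow r U).card =
        Nat.card {y : G // y ∈ Subgroup.normalizer (U : Set G) ∧ orderOf y = d} := by
      rw [Nat.card_eq_fintype_card, Fintype.card_subtype]
      congr 1
      ext y
      simp [Finset.bipartiteBelow, hX, r, and_comm]
    rw [e]
    rcases hd with rfl | rfl
    · rw [if_pos rfl, h2, hUk]
    · rw [if_neg (by norm_num), h4, hUk]
  rw [Finset.sum_congr rfl hN, Finset.sum_const, smul_eq_mul,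
    Finset.sum_congr rfl (fun y hy => show (Finset.bipartiteAbove r (conjClass U₀) y).card =
      ((conjClass U₀).filter fun U => r x U).card from hconst y hy),
    Finset.sum_const, smul_eq_mul] at h1
  have hXc : X.card = ((2 ^ (2 * m + 1)) ^ 2 + 1) * Nat.card {y : G // y ∈ tGroup h ∧ orderOf y = d} := by
    rw [← card_orderOf h d hd, Nat.card_eq_fintype_card, Fintype.card_subtype]
  have hUc : Nat.card {U : Subgroup G // (IsCyclic U ∧ Nat.card U = k) ∧
      x ∈ Subgroup.normalizer (U : Set G)} = ((conjClass U₀).filter fun U => r x U).card := by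
    rw [← Nat.card_eq_finsetCard]
    refine Nat.card_congr (Equiv.subtypeEquivRight fun U => ?_)
    rw [Finset.mem_filter, hclass]
  have hG : (conjClass U₀).card * (weylOrder m k * k) = Nat.card G := by
    rw [card_conjClass, ← (Subgroup.normalizer (U₀ : Set G)).index_mul_card,
      card_torus_normalizer h hU₀ (hc₀ ▸ hk), hc₀]
  rw [hUc, ← hXc, h1, ← hG]
  ring

/-- The solvable two-generated subgroups, for `2m+1` prime. -/
theorem solvable_pair_iff (hp : (2 * m + 1).Prime) (x y : G) :
    Group.IsSolvable (Subgroup.closure ({x, y} : Set G)) ↔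
      (∃ p ∈ Cfsg.suzukiOvoid F m, x • p = p ∧ y • p = p) ∨
      ∃ U : Subgroup G, IsCyclic U ∧ Nat.card U ∈ torusOrders m ∧
        x ∈ Subgroup.normalizer (U : Set G) ∧ y ∈ Subgroup.normalizer (U : Set G) := by
  set H := Subgroup.closure ({x, y} : Set G) with hH
  have hxH : x ∈ H := Subgroup.subset_closure (by simp)
  have hyH : y ∈ H := Subgroup.subset_closure (by simp)
  constructor
  · intro hs
    rcases solvable_cases h H hs with ⟨P, hP⟩ | ⟨U, hU, hUc, hle⟩
    · obtain ⟨g, hg⟩ := exists_map_tGroup h P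
      rw [hg, map_conj_normalizer, normalizer_tGroup h] at hP
      refine Or.inl ⟨g • pInf, smul_ovoid g.2 pInf_mem, ?_, ?_⟩
      · exact conj_fix.1 (MulAction.mem_stabilizer_iff.1 (mem_map_conj.1 (hP hxH)))
      · exact conj_fix.1 (MulAction.mem_stabilizer_iff.1 (mem_map_conj.1 (hP hyH)))
    · exact Or.inr ⟨U, hU, hUc, hle hxH, hle hyH⟩
  · rintro (⟨p, hp', hxp, hyp⟩ | ⟨U, hU, hUc, hxU, hyU⟩)
    · obtain ⟨g, hg⟩ := exists_smul_pInf h hp'
      have hle : H ≤ (borel F m).map (MulAut.conj g).toMonoidHom := by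
        rw [hH, Subgroup.closure_le]
        intro z hz
        refine mem_map_conj.2 (MulAction.mem_stabilizer_iff.2 (conj_fix.2 ?_))
        rw [hg]
        rcases hz with rfl | rfl
        exacts [hxp, hyp]
      have := borel_isSolvable h
      have : Group.IsSolvable ((borel F m).map (MulAut.conj g).toMonoidHom) :=
        (isSolvable_map_conj _ g).2 this
      exact solvable_of_solvable_injective (Subgroup.inclusion_injective hle)
    · have hle : H ≤ Subgroup.normalizer (U : Set G) := by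
        rw [hH, Subgroup.closure_le]
        intro z hz
        rcases hz with rfl | rfl
        exacts [hxU, hyU]
      by_contra hns
      obtain ⟨k, hk, hdiv, z, hz⟩ := classify h hns
      have hkm : k = m := by
        rcases hp.eq_one_or_self_of_dvd _ hdiv with e | e <;> omega
      rw [hkm] at hk hdiv hz
      have hHtop : H = ⊤ := by
        apply Subgroup.eq_top_of_card_eq
        rw [← Subgroup.card_map_of_injective (K := H) (f := (MulAut.conj z).toMonoidHom)
          (MulAut.conj z).injective, hz, card_subfieldGroup h hk hdiv, CfsgLib.Suzuki.card h]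
      rw [hHtop, top_le_iff, Subgroup.normalizer_eq_top_iff] at hle
      rcases (isSimpleGroup h).eq_bot_or_eq_top_of_normal U hle with e | e
      · have h1 := one_lt_orders h.one_le hUc
        rw [e, Subgroup.card_bot] at h1
        exact lt_irrefl 1 h1
      · refine not_isSolvable h ?_
        have hc := hU
        rw [e] at hc
        have : IsCyclic G := Subgroup.topEquiv.isCyclic.1 hc
        letI : CommGroup G := IsCyclic.commGroup
        infer_instance

end CfsgLib.SuzukiSub
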