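import Mathlib
import Cfsg.Prelude.Def_LieExceptional
import Cfsg.Agent.Lib.SuzukiSub.Solubilizer

/-!
The orders of the solubilizers in `Cfsg.Sz F m` for `2m+1` prime.
-/

set_option autoImplicit false

namespace CfsgLib.SuzukiSub

open CfsgLib.Suzuki Matrix
open scoped Pointwise

variable {F : Type*} [Field F] [Fintype F] {m : ℕ}

local notation "Pt" => Projectivization F (Fin 4 → F)
set_option quotPrecheck false in
local notation "G" => ↥(Cfsg.Sz F m)

variable (h : SzHyp F m)
include h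

theorem solSet_conj (g x : G) : Nat.card (solSet (g * x * g⁻¹)) = Nat.card (solSet x) :=
  solSet_map (MulAut.conj g) x

/-- A common element of two tori normalisers, other than the point stabiliser, is impossible. -/
theorem torus_unique (hp : (2 * m + 1).Prime) {x y : G} (hx : x ∈ tGroup h) (hx1 : x ≠ 1)
    (hy : y • (pInf : Pt) ≠ pInf) {U V : Subgroup G}
    (hU : IsCyclic U) (hUc : Nat.card U ∈ torusOrders m)
    (hV : IsCyclic V) (hVc : Nat.card V ∈ torusOrders m)
    (hxU : x ∈ Subgroup.normalizer (U : Set G)) (hyU : y ∈ Subgroup.normalizer (U : Set G))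
    (hxV : x ∈ Subgroup.normalizer (V : Set G)) (hyV : y ∈ Subgroup.normalizer (V : Set G)) :
    U = V := by
  by_contra hne
  have _ := hp
  set H := Subgroup.closure ({x, y} : Set G) with hH
  have hxH : x ∈ H := Subgroup.subset_closure (by simp)
  have hyH : y ∈ H := Subgroup.subset_closure (by simp)
  have hle : H ≤ Subgroup.normalizer (U : Set G) ⊓ Subgroup.normalizer (V : Set G) := by
    rw [hH, Subgroup.closure_le]
    intro z hz
    rcases hz with rfl | rfl
    exacts [⟨hxU, hxV⟩, ⟨hyU, hyV⟩]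
  have hH2 : IsPGroup 2 H := by
    rw [IsPGroup.iff_orderOf]
    rintro ⟨z, hz⟩
    rw [Subgroup.orderOf_mk]
    have h4 : z ^ 2 ^ 2 = 1 := by
      by_contra hz4
      apply hne
      rw [← torus_centralizer h hU hUc (pow_four_mem h hU hUc (hle hz).1).2 hz4,
        ← torus_centralizer h hV hVc (pow_four_mem h hV hVc (hle hz).2).2 hz4]
    obtain ⟨i, -, hi⟩ := (Nat.dvd_prime_pow Nat.prime_two).1 (orderOf_dvd_of_pow_eq_one h4)
    exact ⟨i, hi⟩
  obtain ⟨g, hg⟩ := exists_conj_le_tGroup h hH2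
  have hgfix : ∀ z ∈ H, z • (g • (pInf : Pt)) = g • (pInf : Pt) := fun z hz =>
    conj_fix.1 (fix_pInf_of_mem_tGroup h (hg z hz))
  have hgi : g • (pInf : Pt) = pInf := tS_fixed h hx hx1 (smul_ovoid g.2 pInf_mem) (hgfix x hxH)
  apply hy
  have := hgfix y hyH
  rwa [hgi] at this

theorem normalizer_inter_borel {x : G} (hx : x ∈ tGroup h) (hx1 : x ≠ 1) {U : Subgroup G}
    (hU : IsCyclic U) (hUc : Nat.card U ∈ torusOrders m)
    (hxU : x ∈ Subgroup.normalizer (U : Set G)) :
    Nat.card {y : G // y ∈ Subgroup.normalizer (U : Set G) ∧ y • (pInf : Pt) = pInf} =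
      weylOrder m (Nat.card U) := by
  have := Fact.mk Nat.prime_two
  set N := Subgroup.normalizer (U : Set G) with hN
  set w := weylOrder m (Nat.card U) with hw
  set D : Subgroup G := N ⊓ borel F m with hD
  have hcard : Nat.card {y : G // y ∈ N ∧ y • (pInf : Pt) = pInf} = Nat.card D :=
    Nat.card_congr (Equiv.subtypeEquivRight fun y => by
      rw [hD, Subgroup.mem_inf, MulAction.mem_stabilizer_iff])
  rw [hcard]
  have hNcard : Nat.card N = w * Nat.card U := card_torus_normalizer h hU hUc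
  have hdisj : ∀ y ∈ D, y ∈ U → y = 1 := by
    intro y hy hyU
    by_contra hy1
    have hyi : y • (pInf : Pt) = pInf := MulAction.mem_stabilizer_iff.1 hy.2
    rcases borel_conj h hyi with hyT | ⟨z, k, hk, hyz⟩
    · obtain ⟨i, hi⟩ := two_pow_of_mem_tGroup h hyT
      have hodd := (odd_of_torusOrders h.one_le hUc).of_dvd_nat (U.orderOf_dvd_natCard hyU)
      rw [hi] at hodd
      rcases Nat.eq_zero_or_pos i with h0 | h0
      · exact hy1 (orderOf_eq_one_iff.1 (by rw [hi, h0, pow_zero]))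
      · exact Nat.not_even_iff_odd.2 hodd (even_iff_two_dvd.2 (dvd_pow_self 2 h0.ne'))
    · -- a split torus with infinity among its fixed points
      have hUeq : U = (torus h).map (MulAut.conj z).toMonoidHom := by
        rw [← torus_centralizer h hU hUc hyU hy1]
        refine centralizer_mem_conj_torus h z (mem_map_conj.2 ?_) hy1
        exact ⟨k, by rw [hyz]; show dS h k = _; group⟩
      have hfix : ∀ p ∈ Cfsg.suzukiOvoid F m, y • p = p →
          p = z • (pInf : Pt) ∨ p = z • pAff m (0 : F) 0 := by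
        intro p hp e
        have e1 : dS h k • (z⁻¹ • p) = z⁻¹ • p := by
          rw [eq_inv_smul_iff, ← mul_smul, ← mul_smul, ← hyz, e]
        rcases dS_fixed' h hk (smul_ovoid (z⁻¹).2 hp) e1 with e2 | e2
        · exact Or.inl (inv_smul_eq_iff.1 e2)
        · exact Or.inr (inv_smul_eq_iff.1 e2)
      have hxnorm : y • (x • (z • (pInf : Pt))) = x • (z • (pInf : Pt)) ∧
          y • (x • (z • pAff m (0 : F) 0)) = x • (z • pAff m (0 : F) 0) := by
        have hmem : x⁻¹ * y * x ∈ U := by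
          have := (Subgroup.mem_normalizer_iff.1 (inv_mem hxU) y).1 hyU
          rwa [inv_inv] at this
        rw [hUeq, mem_map_conj] at hmem
        obtain ⟨j, hj⟩ := hmem
        constructor <;> rw [← conj_fix, ← conj_fix, show z⁻¹ * (x⁻¹ * y * x) * z = dS h j from hj.symm]
        · exact dS_smul_pInf h j
        · exact dS_smul_p0 h j
      have ha : y • (z • (pInf : Pt)) = z • (pInf : Pt) := by
        rw [hyz, mul_smul, inv_smul_smul, mul_smul, dS_smul_pInf]
      have hb : y • (z • pAff m (0 : F) 0) = z • pAff m (0 : F) 0 := by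
        rw [hyz, mul_smul, inv_smul_smul, mul_smul, dS_smul_p0]
      have hab : z • (pInf : Pt) ≠ z • pAff m (0 : F) 0 := fun e =>
        pAff_ne_pInf _ _ (MulAction.injective z e).symm
      have h1 := hfix _ (smul_ovoid x.2 (smul_ovoid z.2 pInf_mem)) hxnorm.1
      have h2 := hfix _ (smul_ovoid x.2 (smul_ovoid z.2 (pAff_mem 0 0))) hxnorm.2
      have hxi := fix_pInf_of_mem_tGroup h hx
      rcases hfix _ pInf_mem hyi with e | e
      · -- the other fixed point is fixed by `x` too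
        change x • (z • (pInf : Pt)) = _ ∨ _ at h1
        change x • (z • pAff m (0 : F) 0) = _ ∨ _ at h2
        rcases h2 with h2 | h2
        · refine hab (MulAction.injective x (h2.trans ?_)).symm
          rw [← e]; exact hxi.symm
        · exact hab ((tS_fixed h hx hx1 (smul_ovoid z.2 (pAff_mem 0 0)) h2).trans e).symm
      · change x • (z • (pInf : Pt)) = _ ∨ _ at h1
        rcases h1 with h1 | h1
        · exact hab ((tS_fixed h hx hx1 (smul_ovoid z.2 pInf_mem) h1).trans e)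
        · refine hab (MulAction.injective x (h1.trans ?_))
          rw [← e]; exact hxi.symm
  apply le_antisymm
  · -- `D` embeds in `N ⧸ U`
    have hN' : (U.subgroupOf N).Normal := Subgroup.normal_in_normalizer
    have hidx : (U.subgroupOf N).index = w := by
      have := hNcard
      rw [card_normalizer_eq] at this
      exact Nat.eq_of_mul_eq_mul_right Nat.card_pos this
    let f : D →* N ⧸ U.subgroupOf N :=
      (QuotientGroup.mk' (U.subgroupOf N)).comp (Subgroup.inclusion inf_le_left)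
    have hf : Function.Injective f := by
      rw [injective_iff_map_eq_one]
      intro a ha
      rw [MonoidHom.comp_apply, QuotientGroup.mk'_apply, QuotientGroup.eq_one_iff,
        Subgroup.mem_subgroupOf] at ha
      exact Subtype.ext (hdisj _ a.2 ha)
    rw [← hidx, Subgroup.index_eq_card]
    exact Nat.card_le_card_of_injective f hf
  · -- a Sylow 2-subgroup of `N` through `x` fixes infinity
    obtain ⟨i, hi⟩ := two_pow_of_mem_tGroup h hx
    obtain ⟨S, hS⟩ := (show IsPGroup 2 (Subgroup.zpowers (⟨x, hxU⟩ : N)) from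
      IsPGroup.of_card (n := i) (by rw [Nat.card_zpowers, Subgroup.orderOf_mk, hi])).exists_le_sylow
    have hSw : w ∣ Nat.card S := by
      have hcop : Nat.Coprime w (S : Subgroup N).index := by
        have h2 : Nat.Coprime 2 (S : Subgroup N).index :=
          (Nat.Prime.coprime_iff_not_dvd Nat.prime_two).2 S.not_dvd_index
        rcases weylOrder_cases m (Nat.card U) with e | e <;> rw [hw, e]
        · exact h2
        · exact h2.pow_left 2
      have := (S : Subgroup N).index_mul_card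
      rw [hNcard] at this
      exact hcop.dvd_of_dvd_mul_left (this ▸ dvd_mul_right _ _)
    refine (Nat.le_of_dvd Nat.card_pos hSw).trans ?_
    obtain ⟨g, hg⟩ := exists_conj_le_tGroup h (S.2.map N.subtype)
    have hgfix : ∀ z ∈ (S : Subgroup N).map N.subtype, z • (g • (pInf : Pt)) = g • (pInf : Pt) :=
      fun z hz => conj_fix.1 (fix_pInf_of_mem_tGroup h (hg z hz))
    have hgi : g • (pInf : Pt) = pInf := tS_fixed h hx hx1 (smul_ovoid g.2 pInf_mem)
      (hgfix x ⟨_, hS (Subgroup.mem_zpowers _), rfl⟩)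
    have hle : (S : Subgroup N).map N.subtype ≤ D := by
      intro z hz
      refine ⟨?_, MulAction.mem_stabilizer_iff.2 ?_⟩
      · obtain ⟨z, -, rfl⟩ := hz; exact z.2
      · have := hgfix z hz
        rwa [hgi] at this
    rw [← Subgroup.card_map_of_injective N.subtype_injective]
    exact Nat.card_le_card_of_injective _ (Subgroup.inclusion_injective hle)

/-- The solubilizer of a non-trivial translation. -/
theorem solSet_translation_sum (hp : (2 * m + 1).Prime) {x : G} (hx : x ∈ tGroup h) (hx1 : x ≠ 1) :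
    Nat.card (solSet x) = (2 ^ (2 * m + 1)) ^ 2 * (2 ^ (2 * m + 1) - 1) +
      ∑ k ∈ ({2 ^ (2 * m + 1) - 1, 2 ^ (2 * m + 1) + 2 ^ (m + 1) + 1,
          2 ^ (2 * m + 1) - 2 ^ (m + 1) + 1} : Finset ℕ),
        Nat.card {U : Subgroup G // (IsCyclic U ∧ Nat.card U = k) ∧
          x ∈ Subgroup.normalizer (U : Set G)} * (weylOrder m k * (k - 1)) := by
  classical
  have := Fintype.ofFinite G
  have := Fintype.ofFinite (Subgroup G)
  set K : Finset ℕ := {2 ^ (2 * m + 1) - 1, 2 ^ (2 * m + 1) + 2 ^ (m + 1) + 1,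
          2 ^ (2 * m + 1) - 2 ^ (m + 1) + 1} with hK
  have hKmem : ∀ k, k ∈ K ↔ k ∈ torusOrders m := fun k => by simp [hK, torusOrders]
  let S : ℕ → Finset (Subgroup G) := fun k =>
    Finset.univ.filter fun U => (IsCyclic U ∧ Nat.card U = k) ∧ x ∈ Subgroup.normalizer (U : Set G)
  let T : Subgroup G → Finset G := fun U =>
    Finset.univ.filter fun y => y ∈ Subgroup.normalizer (U : Set G) ∧ y • (pInf : Pt) ≠ pInf
  have hsol : Nat.card (solSet x) = (Finset.univ.filter fun y : G => y • (pInf : Pt) = pInf).card +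
      ((K.biUnion S).biUnion T).card := by
    rw [← Finset.card_union_of_disjoint, Nat.card_eq_fintype_card, ← Set.toFinset_card]
    · congr 1
      ext y
      rw [Set.mem_toFinset]
      show Group.IsSolvable _ ↔ _
      rw [solvable_pair_iff h hp x y]
      simp only [Finset.mem_union, Finset.mem_filter, Finset.mem_univ, true_and,
        Finset.mem_biUnion, S, T]
      constructor
      · rintro (⟨p, hp', hxp, hyp⟩ | ⟨U, hU, hUc, hxU, hyU⟩)
        · rw [tS_fixed h hx hx1 hp' hxp] at hyp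
          exact Or.inl hyp
        · by_cases hy : y • (pInf : Pt) = pInf
          · exact Or.inl hy
          · exact Or.inr ⟨U, ⟨_, (hKmem _).2 hUc, ⟨hU, rfl⟩, hxU⟩, hyU, hy⟩
      · rintro (hy | ⟨U, ⟨k, hk, ⟨hU, hUk⟩, hxU⟩, hyU, -⟩)
        · exact Or.inl ⟨pInf, pInf_mem, fix_pInf_of_mem_tGroup h hx, hy⟩
        · exact Or.inr ⟨U, hU, hUk ▸ (hKmem k).1 hk, hxU, hyU⟩
    · simp only [Finset.disjoint_left, Finset.mem_filter, Finset.mem_biUnion, T]
      rintro y ⟨-, hy⟩ ⟨U, -, -, -, hy'⟩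
      exact hy' hy
  have hB : (Finset.univ.filter fun y : G => y • (pInf : Pt) = pInf).card =
      (2 ^ (2 * m + 1)) ^ 2 * (2 ^ (2 * m + 1) - 1) := by
    rw [← card_stab h, Nat.card_eq_fintype_card, ← Fintype.card_subtype]
    exact Fintype.card_congr (Equiv.subtypeEquivRight fun y => MulAction.mem_stabilizer_iff.symm)
  rw [hsol, hB]
  congr 1
  rw [Finset.card_biUnion, Finset.sum_biUnion]
  · refine Finset.sum_congr rfl fun k hk => ?_
    have hT : ∀ U ∈ S k, (T U).card = weylOrder m k * (k - 1) := by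
      intro U hU
      obtain ⟨-, ⟨hUc, hUk⟩, hxU⟩ := Finset.mem_filter.1 hU
      have hk' : Nat.card U ∈ torusOrders m := hUk ▸ (hKmem k).1 hk
      have h1 := normalizer_inter_borel h hx hx1 hUc hk' hxU
      have h2 := card_torus_normalizer h hUc hk'
      have h3 := Finset.card_filter_add_card_filter_not
        (s := Finset.univ.filter fun y : G => y ∈ Subgroup.normalizer (U : Set G))
        (fun y => y • (pInf : Pt) = pInf)
      rw [Finset.filter_filter, Finset.filter_filter, ← Fintype.card_subtype,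
        ← Fintype.card_subtype (fun y : G => y ∈ Subgroup.normalizer (U : Set G)),
        ← Nat.card_eq_fintype_card, ← Nat.card_eq_fintype_card, h1, h2, hUk] at h3
      show (Finset.univ.filter fun y : G =>
        y ∈ Subgroup.normalizer (U : Set G) ∧ ¬ y • (pInf : Pt) = pInf).card = _
      rw [Nat.mul_sub, mul_one]
      omega
    rw [Finset.sum_congr rfl hT, Finset.sum_const, smul_eq_mul]
    congr 1
    rw [Nat.card_eq_fintype_card, Fintype.card_subtype]
  · intro a _ b _ hab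
    simp only [Function.onFun, Finset.disjoint_left, S, Finset.mem_filter]
    rintro U ⟨-, ⟨-, h1⟩, -⟩ ⟨-, ⟨-, h2⟩, -⟩
    exact hab (h1.symm.trans h2)
  · intro U hU V hV hne
    simp only [Finset.coe_biUnion, Set.mem_iUnion, Finset.coe_filter, S, Finset.mem_univ,
      true_and, Set.mem_setOf_eq, Finset.mem_coe] at hU hV
    obtain ⟨k, hk, ⟨hUc, hUk⟩, hxU⟩ := hU
    obtain ⟨l, hl, ⟨hVc, hVk⟩, hxV⟩ := hV
    simp only [Function.onFun, Finset.disjoint_left, T, Finset.mem_filter]
    rintro y ⟨-, hyU, hy⟩ ⟨-, hyV, -⟩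
    exact hne (torus_unique h hp hx hx1 hy hUc (hUk ▸ (hKmem k).1 hk) hVc (hVk ▸ (hKmem l).1 hl)
      hxU hyU hxV hyV)

theorem solSet_translation (hp : (2 * m + 1).Prime) {x : G} (hx : x ∈ tGroup h) :
    (orderOf x = 2 → Nat.card (solSet x) =
        (2 ^ (2 * m + 1)) ^ 2 * (4 * 2 ^ (2 * m + 1) - 3)) ∧
      (orderOf x = 4 → Nat.card (solSet x) =
        (2 ^ (2 * m + 1)) ^ 2 * (2 ^ (2 * m + 1) + 3)) := by
  have hq4 : 4 < 2 ^ (2 * m + 1) := h.card ▸ h.four_lt_card
  have hrle : 2 ^ (m + 1) + 1 ≤ 2 ^ (2 * m + 1) := by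
    have h5 : 2 ^ (m + 2) ≤ 2 ^ (2 * m + 1) :=
      Nat.pow_le_pow_right (by norm_num) (by have := h.one_le; omega)
    have h6 : 2 ^ 1 ≤ 2 ^ (m + 1) := Nat.pow_le_pow_right (by norm_num) (by omega)
    have h7 : 2 ^ (m + 2) = 2 ^ (m + 1) + 2 ^ (m + 1) := by ring
    omega
  have hne12 : 2 ^ (2 * m + 1) - 1 ∉ ({2 ^ (2 * m + 1) + 2 ^ (m + 1) + 1,
      2 ^ (2 * m + 1) - 2 ^ (m + 1) + 1} : Finset ℕ) := by
    have h6 : 2 ^ 2 ≤ 2 ^ (m + 1) := Nat.pow_le_pow_right (by norm_num) (by have := h.one_le; omega)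
    simp only [Finset.mem_insert, Finset.mem_singleton]
    omega
  have hne23 : 2 ^ (2 * m + 1) + 2 ^ (m + 1) + 1 ∉
      ({2 ^ (2 * m + 1) - 2 ^ (m + 1) + 1} : Finset ℕ) := by
    have h6 : 1 ≤ 2 ^ (m + 1) := Nat.one_le_two_pow
    simp only [Finset.mem_singleton]
    omega
  have hw1 : weylOrder m (2 ^ (2 * m + 1) - 1) = 2 := if_pos rfl
  have hw2 : weylOrder m (2 ^ (2 * m + 1) + 2 ^ (m + 1) + 1) = 4 := by
    unfold weylOrder; rw [if_neg]
    have h6 : 1 ≤ 2 ^ (m + 1) := Nat.one_le_two_pow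
    omega
  have hw3 : weylOrder m (2 ^ (2 * m + 1) - 2 ^ (m + 1) + 1) = 4 := by
    unfold weylOrder; rw [if_neg]
    have h6 : 2 ^ 2 ≤ 2 ^ (m + 1) := Nat.pow_le_pow_right (by norm_num) (by have := h.one_le; omega)
    omega
  have hc := CfsgLib.Suzuki.card h
  obtain ⟨ht2, ht4⟩ := card_tGroup_orderOf h
  constructor
  · intro hx2
    have hx1 : x ≠ 1 := fun e => by rw [e, orderOf_one] at hx2; omega
    have key : ∀ k ∈ torusOrders m, Nat.card {U : Subgroup G // (IsCyclic U ∧ Nat.card U = k) ∧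
        x ∈ Subgroup.normalizer (U : Set G)} * (weylOrder m k * (k - 1)) =
          (2 ^ (2 * m + 1)) ^ 2 * (k - 1) := by
      intro k hk
      have h1 := count_tori h hx (Or.inl rfl) hx2 hk
      rw [ht2, hc, if_pos rfl] at h1
      have hk0 := one_lt_orders h.one_le hk
      have h2 : Nat.card {U : Subgroup G // (IsCyclic U ∧ Nat.card U = k) ∧
          x ∈ Subgroup.normalizer (U : Set G)} * weylOrder m k = (2 ^ (2 * m + 1)) ^ 2 := by
        apply Nat.eq_of_mul_eq_mul_left (n := ((2 ^ (2 * m + 1)) ^ 2 + 1) * (2 ^ (2 * m + 1) - 1) * k)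
          (Nat.mul_pos (Nat.mul_pos (by omega) (by omega)) (by omega))
        linear_combination h1
      rw [← mul_assoc, h2]
    rw [solSet_translation_sum h hp hx hx1, Finset.sum_insert hne12, Finset.sum_insert hne23,
      Finset.sum_singleton, key _ (Or.inl rfl), key _ (Or.inr (Or.inl rfl)),
      key _ (Or.inr (Or.inr rfl)), ← Nat.mul_add, ← Nat.mul_add, ← Nat.mul_add]
    congr 1
    obtain ⟨q, hq⟩ : ∃ q, q = 2 ^ (2 * m + 1) := ⟨_, rfl⟩
    obtain ⟨r, hr⟩ : ∃ r, r = 2 ^ (m + 1) := ⟨_, rfl⟩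
    rw [← hq, ← hr] at hrle ⊢
    rw [← hq] at hq4
    omega
  · intro hx4
    have hx1 : x ≠ 1 := fun e => by rw [e, orderOf_one] at hx4; omega
    have key : ∀ k ∈ torusOrders m, Nat.card {U : Subgroup G // (IsCyclic U ∧ Nat.card U = k) ∧
        x ∈ Subgroup.normalizer (U : Set G)} * (weylOrder m k * (k - 1)) =
          2 ^ (2 * m + 1) * (weylOrder m k - 2) * (k - 1) := by
      intro k hk
      have h1 := count_tori h hx (Or.inr rfl) hx4 hk
      rw [ht4, hc, if_neg (by norm_num)] at h1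
      have hk0 := one_lt_orders h.one_le hk
      have h2 : Nat.card {U : Subgroup G // (IsCyclic U ∧ Nat.card U = k) ∧
          x ∈ Subgroup.normalizer (U : Set G)} * weylOrder m k =
            2 ^ (2 * m + 1) * (weylOrder m k - 2) := by
        apply Nat.eq_of_mul_eq_mul_left
          (n := ((2 ^ (2 * m + 1)) ^ 2 + 1) * (2 ^ (2 * m + 1) * (2 ^ (2 * m + 1) - 1)) * k)
          (Nat.mul_pos (Nat.mul_pos (by omega) (Nat.mul_pos (by omega) (by omega))) (by omega))
        linear_combination h1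
      rw [← mul_assoc, h2]
    rw [solSet_translation_sum h hp hx hx1, Finset.sum_insert hne12, Finset.sum_insert hne23,
      Finset.sum_singleton, key _ (Or.inl rfl), key _ (Or.inr (Or.inl rfl)),
      key _ (Or.inr (Or.inr rfl)), hw1, hw2, hw3]
    obtain ⟨q, hq⟩ : ∃ q, q = 2 ^ (2 * m + 1) := ⟨_, rfl⟩
    obtain ⟨r, hr⟩ : ∃ r, r = 2 ^ (m + 1) := ⟨_, rfl⟩
    rw [← hq, ← hr] at hrle ⊢
    rw [← hq] at hq4
    have e1 : (q + r + 1 - 1) + (q - r + 1 - 1) = 2 * q := by omega
    have e2 : q ^ 2 * (q - 1) + (q * (2 - 2) * (q - 1 - 1) + (q * (4 - 2) * (q + r + 1 - 1) +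
        q * (4 - 2) * (q - r + 1 - 1))) = q ^ 2 * (q - 1) + 2 * q * (2 * q) := by
      rw [Nat.sub_self, mul_zero, zero_mul, zero_add, ← Nat.mul_add, e1]; ring
    rw [e2, show q + 3 = (q - 1) + 4 by omega]
    ring

theorem orderOf_coprime_eq (hm : 1 ≤ m) {x : G} {A : Subgroup G} (hxA : x ∈ A) (hx1 : x ≠ 1)
    {k : ℕ} (hk : k ∈ torusOrders m) (hA : Nat.card A ∈ torusOrders m) (hd : orderOf x ∣ k) :
    Nat.card A = k := by
  by_contra hne
  have h1 := Nat.eq_one_of_dvd_coprimes (coprime_orders hm hA hk hne) (A.orderOf_dvd_natCard hxA) hd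
  exact hx1 (orderOf_eq_one_iff.1 h1)

theorem exists_torus_of_dvd {x : G} (hx1 : x ≠ 1) {k : ℕ} (hk : k ∈ torusOrders m)
    (hd : orderOf x ∣ k) :
    Odd (orderOf x) ∧ ∃ A : Subgroup G, IsCyclic A ∧ Nat.card A = k ∧ x ∈ A ∧
      ∀ U : Subgroup G, IsCyclic U → Nat.card U ∈ torusOrders m →
        x ∈ Subgroup.normalizer (U : Set G) → U = A := by
  have hodd := (odd_of_torusOrders h.one_le hk).of_dvd_nat hd
  have hnot : ¬ ∃ i, orderOf x = 2 ^ i := by
    rintro ⟨i, hi⟩
    rw [hi] at hodd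
    rcases Nat.eq_zero_or_pos i with h0 | h0
    · exact hx1 (orderOf_eq_one_iff.1 (by rw [hi, h0, pow_zero]))
    · exact Nat.not_even_iff_odd.2 hodd (even_iff_two_dvd.2 (dvd_pow_self 2 h0.ne'))
  obtain ⟨A, hA, hAc, hAo, -⟩ := cent_of_not_two h hnot
  have hxA : x ∈ A := hA ▸ Subgroup.mem_centralizer_singleton_iff.2 rfl
  refine ⟨hodd, A, hAc, orderOf_coprime_eq h h.one_le hxA hx1 hk hAo hd, hxA, fun U hU hUc hxU => ?_⟩
  rw [← hA, torus_centralizer h hU hUc (mem_of_odd h hU hUc hxU hodd) hx1]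

theorem solSet_split (hp : (2 * m + 1).Prime) {x : G} (hx1 : x ≠ 1)
    (hd : orderOf x ∣ 2 ^ (2 * m + 1) - 1) :
    Nat.card (solSet x) = 2 * (2 ^ (2 * m + 1)) ^ 2 * (2 ^ (2 * m + 1) - 1) := by
  classical
  obtain ⟨-, A, hA, hAc, hxA, -⟩ := exists_torus_of_dvd h hx1 (Or.inl rfl) hd
  obtain ⟨g, rfl⟩ := eq_conj_torus h hA hAc
  obtain ⟨k, hk⟩ := mem_map_conj.1 hxA
  change dS h k = _ at hk
  rw [show x = g * dS h k * g⁻¹ by rw [hk]; group, solSet_conj h]
  have hk1 : k ≠ 1 := by
    rintro rfl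
    rw [dS_one, eq_comm] at hk
    apply hx1
    calc x = g * (g⁻¹ * x * g) * g⁻¹ := by group
      _ = 1 := by rw [hk]; group
  have hd1 : dS h k ≠ 1 := fun e => hk1 (dS_injective h (e.trans (dS_one h).symm))
  obtain ⟨-, A', -, -, -, huniq⟩ := exists_torus_of_dvd h hd1 (Or.inl rfl)
    (by rw [← card_torus h]; exact Subgroup.orderOf_dvd_natCard _ ⟨k, rfl⟩)
  have hA' := huniq (torus h) (isCyclic_torus h) (Or.inl (card_torus h))
    (Subgroup.le_normalizer ⟨k, rfl⟩)
  have := Fintype.ofFinite G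
  set B₁ := Finset.univ.filter fun y : G => y • (pInf : Pt) = pInf with hB₁
  set B₀ := Finset.univ.filter fun y : G => y • pAff m (0 : F) 0 = pAff m 0 0 with hB₀
  set N := Finset.univ.filter fun y : G => y ∈ Subgroup.normalizer (torus h : Set G) with hN
  have hsol : Nat.card (solSet (dS h k)) = (B₁ ∪ B₀ ∪ N).card := by
    rw [Nat.card_eq_fintype_card, ← Set.toFinset_card]
    congr 1
    ext y
    rw [Set.mem_toFinset]
    show Group.IsSolvable _ ↔ _
    rw [solvable_pair_iff h hp]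
    simp only [Finset.mem_union, hB₁, hB₀, hN, Finset.mem_filter, Finset.mem_univ, true_and]
    constructor
    · rintro (⟨p, hp', hxp, hyp⟩ | ⟨U, hU, hUc, hxU, hyU⟩)
      · rcases dS_fixed' h hk1 hp' hxp with rfl | rfl
        exacts [Or.inl (Or.inl hyp), Or.inl (Or.inr hyp)]
      · rw [huniq U hU hUc hxU, ← hA'] at hyU
        exact Or.inr hyU
    · rintro ((hy | hy) | hy)
      · exact Or.inl ⟨_, pInf_mem, dS_smul_pInf h k, hy⟩
      · exact Or.inl ⟨_, pAff_mem 0 0, dS_smul_p0 h k, hy⟩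
      · exact Or.inr ⟨torus h, isCyclic_torus h, Or.inl (card_torus h),
          Subgroup.le_normalizer ⟨k, rfl⟩, hy⟩
  have h1 : B₁.card = (2 ^ (2 * m + 1)) ^ 2 * (2 ^ (2 * m + 1) - 1) := by
    rw [← card_stab h, Nat.card_eq_fintype_card, hB₁, ← Fintype.card_subtype]
    exact Fintype.card_congr (Equiv.subtypeEquivRight fun y => MulAction.mem_stabilizer_iff.symm)
  have h0 : B₀.card = B₁.card := by
    refine Finset.card_bij (fun y _ => wS h * y * wS h) ?_ ?_ ?_
    · intro y hy
      simp only [hB₀, hB₁, Finset.mem_filter, Finset.mem_univ, true_and] at hy ⊢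
      rw [mul_smul, mul_smul, wS_smul_pInf, hy, wS_smul_p0]
    · intro a _ b _ e
      exact mul_left_cancel (mul_right_cancel e)
    · intro y hy
      simp only [hB₁, Finset.mem_filter, Finset.mem_univ, true_and] at hy
      refine ⟨wS h * y * wS h, ?_, ?_⟩
      · simp only [hB₀, Finset.mem_filter, Finset.mem_univ, true_and]
        rw [mul_smul, mul_smul, wS_smul_p0, hy, wS_smul_pInf]
      · simp only [← mul_assoc, wS_mul_self, one_mul]
        rw [mul_assoc, wS_mul_self, mul_one]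
  have hN' : N.card = 2 * (2 ^ (2 * m + 1) - 1) := by
    rw [← card_normalizer_torus h, Nat.card_eq_fintype_card, hN, ← Fintype.card_subtype]
  have hT : (Finset.univ.filter fun y : G => y ∈ torus h).card = 2 ^ (2 * m + 1) - 1 := by
    rw [← card_torus h, Nat.card_eq_fintype_card, ← Fintype.card_subtype]
  have hi : B₁ ∩ B₀ = Finset.univ.filter fun y : G => y ∈ torus h := by
    ext y
    simp only [hB₁, hB₀, Finset.mem_inter, Finset.mem_filter, Finset.mem_univ, true_and]
    constructor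
    · rintro ⟨e1, e2⟩
      obtain ⟨j, rfl⟩ := exists_dS h e1 e2
      exact ⟨j, rfl⟩
    · rintro ⟨j, rfl⟩
      exact ⟨dS_smul_pInf h j, dS_smul_p0 h j⟩
  have hi2 : (B₁ ∪ B₀) ∩ N = Finset.univ.filter fun y : G => y ∈ torus h := by
    ext y
    simp only [hB₁, hB₀, hN, Finset.mem_inter, Finset.mem_union, Finset.mem_filter, Finset.mem_univ,
      true_and]
    constructor
    · rintro ⟨hy, hyN⟩
      rcases (mem_normalizer_torus h).1 hyN with hy' | ⟨j, rfl⟩
      · exact hy'
      · exfalso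
        rcases hy with hy | hy
        · rw [mul_smul, dS_smul_pInf, wS_smul_pInf] at hy
          exact pAff_ne_pInf _ _ hy
        · rw [mul_smul, dS_smul_p0, wS_smul_p0] at hy
          exact pAff_ne_pInf _ _ hy.symm
    · intro hy
      exact ⟨Or.inl (MulAction.mem_stabilizer_iff.1 (torus_le_borel h hy)), Subgroup.le_normalizer hy⟩
  have e1 := Finset.card_union_add_card_inter B₁ B₀
  have e2 := Finset.card_union_add_card_inter (B₁ ∪ B₀) N
  rw [hi, hT, h0] at e1
  rw [hi2, hT, hN'] at e2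
  rw [hsol, mul_assoc]
  rw [h1] at e1
  omega

theorem solSet_exceptional (hp : (2 * m + 1).Prime) {x : G} (hx1 : x ≠ 1) {k : ℕ}
    (hk : k = 2 ^ (2 * m + 1) + 2 ^ (m + 1) + 1 ∨ k = 2 ^ (2 * m + 1) - 2 ^ (m + 1) + 1)
    (hd : orderOf x ∣ k) : Nat.card (solSet x) = 4 * k := by
  have hk' : k ∈ torusOrders m := Or.inr hk
  obtain ⟨hodd, A, hA, hAc, hxA, huniq⟩ := exists_torus_of_dvd h hx1 hk' hd
  have hE := eq_exc_torus h hA (hAc ▸ hk)
  rw [← hAc, ← card_normalizer_exc h hE]
  refine Nat.card_congr (Equiv.subtypeEquivRight fun y => ?_)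
  show Group.IsSolvable _ ↔ _
  rw [solvable_pair_iff h hp x y]
  constructor
  · rintro (⟨p, hp', hxp, -⟩ | ⟨U, hU, hUc, hxU, hyU⟩)
    · exfalso
      obtain ⟨z, hz | ⟨j, hj, hz⟩⟩ := exists_normal_form h hp' hxp
      · obtain ⟨i, hi⟩ := two_pow_conj (two_pow_of_mem_tGroup h hz)
        rw [hi] at hodd
        rcases Nat.eq_zero_or_pos i with h0 | h0
        · exact hx1 (orderOf_eq_one_iff.1 (by rw [hi, h0, pow_zero]))
        · exact Nat.not_even_iff_odd.2 hodd (even_iff_two_dvd.2 (dvd_pow_self 2 h0.ne'))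
      · have hxT : x ∈ (torus h).map (MulAut.conj z).toMonoidHom := mem_map_conj.2 ⟨j, hz.symm⟩
        have h1 := orderOf_coprime_eq h h.one_le hxT hx1 hk'
          (Or.inl ((Subgroup.card_map_of_injective (MulAut.conj z).injective).trans (card_torus h))) hd
        rw [Subgroup.card_map_of_injective (MulAut.conj z).injective, card_torus h] at h1
        have h6 : 2 ^ 2 ≤ 2 ^ (m + 1) := Nat.pow_le_pow_right (by norm_num) (by have := h.one_le; omega)
        have h7 : 2 ^ (m + 1) ≤ 2 ^ (2 * m + 1) := Nat.pow_le_pow_right (by norm_num) (by omega)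
        omega
    · rwa [huniq U hU hUc hxU] at hyU
  · exact fun hy => Or.inr ⟨A, hA, hAc ▸ hk', Subgroup.le_normalizer hxA, hy⟩

/-- The five solubilizer orders. -/
theorem solSet_card (hp : (2 * m + 1).Prime) (x : G) :
    (orderOf x = 2 → Nat.card (solSet x) = (2 ^ (2 * m + 1)) ^ 2 * (4 * 2 ^ (2 * m + 1) - 3)) ∧
    (orderOf x = 4 → Nat.card (solSet x) = (2 ^ (2 * m + 1)) ^ 2 * (2 ^ (2 * m + 1) + 3)) ∧
    (x ≠ 1 → orderOf x ∣ 2 ^ (2 * m + 1) - 1 →
      Nat.card (solSet x) = 2 * (2 ^ (2 * m + 1)) ^ 2 * (2 ^ (2 * m + 1) - 1)) ∧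
    (x ≠ 1 → orderOf x ∣ 2 ^ (2 * m + 1) + 2 ^ (m + 1) + 1 →
      Nat.card (solSet x) = 4 * (2 ^ (2 * m + 1) + 2 ^ (m + 1) + 1)) ∧
    (x ≠ 1 → orderOf x ∣ 2 ^ (2 * m + 1) - 2 ^ (m + 1) + 1 →
      Nat.card (solSet x) = 4 * (2 ^ (2 * m + 1) - 2 ^ (m + 1) + 1)) := by
  refine ⟨fun hx => ?_, fun hx => ?_, fun h1 h2 => solSet_split h hp h1 h2,
    fun h1 h2 => solSet_exceptional h hp h1 (Or.inl rfl) h2,
    fun h1 h2 => solSet_exceptional h hp h1 (Or.inr rfl) h2⟩
  all_goals
    obtain ⟨z, hz⟩ := exists_conj_mem_tGroup h (g := x)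
      (by first | exact ⟨1, by rw [hx]; rfl⟩ | exact ⟨2, by rw [hx]; rfl⟩)
    have e : orderOf (z⁻¹ * x * z) = orderOf x := by
      rw [show z⁻¹ * x * z = MulAut.conj z⁻¹ x by simp, MulEquiv.orderOf_eq]
    rw [show x = z * (z⁻¹ * x * z) * z⁻¹ by group, solSet_conj h]
  · exact (solSet_translation h hp hz).1 (e.trans hx)
  · exact (solSet_translation h hp hz).2 (e.trans hx)

end CfsgLib.SuzukiSub
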